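import Cfsg.Agent.Lib.Counting.Commuting
import Cfsg.Agent.Lib.Counting.PermClasses
import Cfsg.Agent.Lib.ClassNumber.Blocks
import Mathlib

/-!
# Class number bounds inherited by subgroups
-/

set_option autoImplicit false

namespace Cfsg.Agent.LinClasses

open Subgroup

universe u v w

variable {G : Type u} [Group G] {K : Type v} [Group K]

/-- every subgroup has at most `b` classes -/
def Bd (G : Type u) [Group G] (b : ℕ) : Prop :=
  ∀ X : Subgroup G, Nat.card (ConjClasses X) ≤ b

theorem Bd.mono {a b : ℕ} (h : Bd G a) (hab : a ≤ b) : Bd G b := fun X => (h X).trans hab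

theorem card_conjClasses_le_card [Finite G] (X : Subgroup G) :
    Nat.card (ConjClasses X) ≤ Nat.card G :=
  (Nat.card_le_card_of_surjective _ ConjClasses.mk_surjective).trans
    (Subgroup.card_le_card_group X)

theorem Bd.of_card [Finite G] {b : ℕ} (h : Nat.card G ≤ b) : Bd G b :=
  fun X => (card_conjClasses_le_card X).trans h

theorem Bd.self [Finite G] {b : ℕ} (h : Bd G b) : Nat.card (ConjClasses G) ≤ b :=
  (ClassNumber.card_conjClasses_le_of_surjective (Subgroup.topEquiv (G := G)).toMonoidHom
    (Subgroup.topEquiv (G := G)).surjective).trans (h ⊤)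

theorem Bd.of_injective [Finite G] {b : ℕ} (f : G →* K) (hf : Function.Injective f) (h : Bd K b) :
    Bd G b := by
  intro X
  refine le_trans ?_ (h (X.map f))
  let e := X.equivMapOfInjective f hf
  haveI : Finite (X.map f) := Finite.of_equiv X e.toEquiv
  exact ClassNumber.card_conjClasses_le_of_surjective e.symm.toMonoidHom e.symm.surjective

/-- a pair of homomorphisms jointly injective -/
theorem Bd.two [Finite G] {L : Type w} [Group L] {a b : ℕ} (f : G →* K) (g : G →* L)
    (hinj : ∀ x, f x = 1 → g x = 1 → x = 1) (hf : Bd K a) (hg : Bd L b) : Bd G (a * b) := by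
  intro X
  set N := (f.comp X.subtype).ker
  refine (Counting.Commuting.card_conjClasses_le_mul N).trans ?_
  rw [mul_comm a b]
  refine Nat.mul_le_mul ?_ ?_
  · refine (Bd.of_injective ((g.comp X.subtype).comp N.subtype) ?_ hg).self
    rw [injective_iff_map_eq_one]
    intro y hy
    exact Subtype.ext (Subtype.ext (hinj _ y.2 hy))
  · let e := QuotientGroup.quotientKerEquivRange (f.comp X.subtype)
    refine le_trans ?_ (hf (f.comp X.subtype).range)
    haveI : Finite (f.comp X.subtype).range := Finite.of_equiv (X ⧸ N) e.toEquiv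
    exact ClassNumber.card_conjClasses_le_of_surjective e.symm.toMonoidHom e.symm.surjective

/-- a homomorphism and its kernel -/
theorem Bd.of_ker [Finite G] {a b : ℕ} (f : G →* K) (hN : Bd f.ker a) (hf : Bd K b) :
    Bd G (a * b) := by
  intro X
  set N := (f.comp X.subtype).ker
  refine (Counting.Commuting.card_conjClasses_le_mul N).trans (Nat.mul_le_mul ?_ ?_)
  · let i : N →* f.ker := MonoidHom.codRestrict ((X.subtype).comp N.subtype) f.ker fun x => x.2
    refine (Bd.of_injective i (fun x y hxy => ?_) hN).self
    exact Subtype.ext (Subtype.ext (congrArg (Subtype.val : f.ker → G) hxy))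
  · let e := QuotientGroup.quotientKerEquivRange (f.comp X.subtype)
    refine le_trans ?_ (hf (f.comp X.subtype).range)
    haveI : Finite (f.comp X.subtype).range := Finite.of_equiv (X ⧸ N) e.toEquiv
    exact ClassNumber.card_conjClasses_le_of_surjective e.symm.toMonoidHom e.symm.surjective

/-- a finite family of homomorphisms jointly injective -/
theorem Bd.family {ι : Type*} [Finite G] (s : Finset ι) {L : ι → Type w}
    [∀ i, Group (L i)] (f : ∀ i, G →* L i) (b : ι → ℕ) (hb : ∀ i ∈ s, Bd (L i) (b i)) :
    (∀ x, (∀ i ∈ s, f i x = 1) → x = 1) → Bd G (∏ i ∈ s, b i) := by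
  classical
  induction s using Finset.induction generalizing G with
  | empty =>
    intro h X
    rw [Finset.prod_empty]
    refine (Nat.card_le_card_of_surjective _ ConjClasses.mk_surjective).trans ?_
    haveI : Subsingleton X := ⟨fun x y => Subtype.ext
      ((h x (by simp)).trans (h y (by simp)).symm)⟩
    exact Finite.card_le_one_iff_subsingleton.2 inferInstance
  | insert i s hi ih =>
    intro h
    rw [Finset.prod_insert hi, mul_comm]
    refine Bd.of_ker (f i) (ih (G := (f i).ker) (fun j => (f j).comp (f i).ker.subtype)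
      (fun j hj => hb j (Finset.mem_insert_of_mem hj)) fun x hx => Subtype.ext (h x fun j hj => ?_))
      (hb i (Finset.mem_insert_self i s))
    rcases Finset.mem_insert.1 hj with rfl | hj
    · exact x.2
    · exact hx j hj

theorem Bd.perm {Ω : Type*} [Finite Ω] [Nonempty Ω] :
    Bd (Equiv.Perm Ω) (2 ^ (Nat.card Ω - 1)) := by
  intro X
  refine (Counting.PermClasses.card_conjClasses_le_two_pow X).trans
    (Nat.pow_le_pow_right (by norm_num) (Nat.sub_le_sub_left ?_ _))
  obtain ⟨a⟩ := ‹Nonempty Ω›
  haveI : Nonempty (MulAction.orbitRel.Quotient X Ω) := ⟨Quotient.mk'' a⟩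
  exact Nat.card_pos

theorem bd_perm_three : Bd (Equiv.Perm (Fin 3)) 3 := by
  intro X
  have h6 : Nat.card (Equiv.Perm (Fin 3)) = 6 := by
    rw [Nat.card_perm, Nat.card_fin]; rfl
  by_cases hX : X = ⊤
  · subst hX
    refine le_trans (ClassNumber.card_conjClasses_le_of_surjective
      (Subgroup.topEquiv (G := Equiv.Perm (Fin 3))).symm.toMonoidHom
      (Subgroup.topEquiv (G := Equiv.Perm (Fin 3))).symm.surjective) ?_
    rw [Nat.card_eq_fintype_card]
    decide +kernel
  · refine (Nat.card_le_card_of_surjective _ ConjClasses.mk_surjective).trans ?_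
    have h1 : X.index ≠ 1 := fun h => hX (Subgroup.index_eq_one.1 h)
    have h2 := X.card_mul_index
    rw [h6] at h2
    have h3 : X.index ≠ 0 := Subgroup.index_ne_zero_of_finite
    have : 2 * Nat.card X ≤ 6 := by
      calc 2 * Nat.card X ≤ X.index * Nat.card X := Nat.mul_le_mul_right _ (by omega)
        _ = 6 := by rw [mul_comm, h2]
    omega

/-- classes against the number of elements with large centraliser -/
theorem card_conjClasses_count [Finite G] (S : Set G) (c : ℕ)
    (hc : ∀ g ∉ S, Nat.card (centralizer ({g} : Set G)) ≤ c) :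
    Nat.card (ConjClasses G) * Nat.card G + S.ncard * c ≤
      S.ncard * Nat.card G + Nat.card G * c := by
  classical
  haveI := Fintype.ofFinite G
  rw [← Counting.Commuting.sum_card_centralizer, Set.ncard_eq_toFinset_card' S]
  rw [← Finset.sum_add_sum_compl S.toFinset]
  have h1 : ∑ x ∈ S.toFinset, Nat.card (centralizer ({x} : Set G)) ≤
      S.toFinset.card * Nat.card G := by
    refine (Finset.sum_le_card_nsmul _ _ _ fun x _ => Subgroup.card_le_card_group _).trans ?_
    rw [smul_eq_mul]
  have h2 : ∑ x ∈ S.toFinsetᶜ, Nat.card (centralizer ({x} : Set G)) ≤ S.toFinsetᶜ.card * c := by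
    refine (Finset.sum_le_card_nsmul _ _ _ fun x hx => hc x ?_).trans (by rw [smul_eq_mul])
    rw [Finset.mem_compl, Set.mem_toFinset] at hx
    exact hx
  have h3 : S.toFinsetᶜ.card * c + S.toFinset.card * c = Nat.card G * c := by
    rw [← add_mul, add_comm, Finset.card_add_card_compl, Nat.card_eq_fintype_card]
  omega

end Cfsg.Agent.LinClasses
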