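import Cfsg.Agent.LinClasses.Basic
import Cfsg.Agent.Lib.ClassNumber.Primitive

/-!
# Classes of subgroups of small solvable irreducible linear groups
-/

set_option autoImplicit false

namespace Cfsg.Agent.LinClasses

open ClassNumber
open scoped commutatorElement

universe u

set_option maxHeartbeats 3200000 in
/-- the order of a primitive solvable group -/
theorem prim_data {p : ℕ} [hp : Fact p.Prime] {L : Type u} [Group L] [Finite L]
    (hsol : Group.IsSolvable L) {W : Type u} [AddCommGroup W] [Module (ZMod p) W] [Finite W]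
    [Nontrivial W] (ρ : Representation (ZMod p) L W) (hinj : Function.Injective ρ)
    (hprim : Prim ρ) :
    ∃ a D z e y : ℕ, 1 ≤ a ∧ a * D = Module.finrank (ZMod p) W ∧ 1 ≤ e ∧ e ≤ D ∧
      z ∣ p ^ a - 1 ∧ (∀ r : ℕ, r.Prime → r ∣ e → r ∣ z) ∧ y ≤ spB e ∧ (e = 2 → y ∣ 6) ∧
      (e = 3 → y ≤ 24) ∧ (e = 4 → y ≤ 72) ∧ Nat.card L ≤ a * (z * (e ^ 2 * y)) ∧
      ∃ g : L, orderOf g = z ∧ ∀ (i : ℕ) (v : W), v ≠ 0 → ρ (g ^ i) v = v → g ^ i = 1 := by
  classical
  haveI := hsol
  obtain ⟨A, hA, hAmax⟩ := Finset.exists_max_image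
    ((Set.toFinite {B : Subgroup L | B.Normal ∧ ∀ a ∈ B, ∀ b ∈ B, a * b = b * a}).toFinset)
    (fun B => Nat.card B) ⟨⊥, by simp [Subgroup.normal_bot]⟩
  rw [Set.Finite.mem_toFinset] at hA
  obtain ⟨hAn, hAc⟩ := hA
  haveI := hAn
  have hmax : ∀ B : Subgroup L, B.Normal → (∀ a ∈ B, ∀ b ∈ B, a * b = b * a) → A ≤ B → B = A :=
    fun B hB hBc hAB => (Subgroup.eq_of_le_of_card_ge hAB
      (hAmax B (by rw [Set.Finite.mem_toFinset]; exact ⟨hB, hBc⟩))).symm
  haveI : Finite (Module.End (ZMod p) W) := DFunLike.finite _
  set K := Algebra.adjoin (ZMod p) (ρ '' (A : Set L)) with hK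
  letI : Field K := (hprim.isField A hAc).toField
  haveI : Finite K := inferInstance
  haveI : IsScalarTower (ZMod p) K W := ⟨fun c x w => rfl⟩
  haveI : Module.Finite (ZMod p) W := Module.Finite.of_finite
  haveI : Module.Finite K W := Module.Finite.of_finite
  haveI : Module.Finite (ZMod p) K := Module.Finite.of_finite
  set a := Module.finrank (ZMod p) K with ha
  set D := Module.finrank K W with hD
  have had : a * D = Module.finrank (ZMod p) W := Module.finrank_mul_finrank (ZMod p) K W
  have ha1 : 1 ≤ a := Module.finrank_pos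
  have hD1 : 1 ≤ D := Module.finrank_pos
  set C := Subgroup.centralizer (A : Set L) with hC
  -- the Galois quotient
  have hcjK : ∀ (g : L), ∀ y ∈ K, cj ρ g y ∈ K := by
    intro g y hy
    induction hy using Algebra.adjoin_induction with
    | mem y hy =>
      obtain ⟨b, hb, rfl⟩ := hy
      refine Algebra.subset_adjoin ⟨g * b * g⁻¹, hAn.conj_mem b hb g, ?_⟩
      simp [cj, map_mul]
    | algebraMap r =>
      have : cj ρ g (algebraMap _ (Module.End (ZMod p) W) r) = algebraMap _ _ r := by
        rw [cj, ← Algebra.commutes, mul_assoc, rho_inv', mul_one]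
      rw [this]
      exact K.algebraMap_mem r
    | add y z _ _ hy hz =>
      rw [cj, mul_add, add_mul]
      exact K.add_mem hy hz
    | mul y z _ _ hy hz =>
      rw [← cj_mul]
      exact K.mul_mem hy hz
  let aut : L → (K ≃ₐ[ZMod p] K) := fun g => AlgEquiv.ofAlgHom
    { toFun := fun y => ⟨cj ρ g y, hcjK g y y.2⟩
      map_one' := Subtype.ext (by simp [cj, rho_inv'])
      map_mul' := fun y z => Subtype.ext (cj_mul ρ g y z).symm
      map_zero' := Subtype.ext (by simp [cj])
      map_add' := fun y z => Subtype.ext (by simp [cj, mul_add, add_mul])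
      commutes' := fun r => Subtype.ext (by
        show cj ρ g (algebraMap _ _ r) = algebraMap _ _ r
        rw [cj, ← Algebra.commutes, mul_assoc, rho_inv', mul_one]) }
    { toFun := fun y => ⟨cj ρ g⁻¹ y, hcjK g⁻¹ y y.2⟩
      map_one' := Subtype.ext (by simp [cj, rho_inv])
      map_mul' := fun y z => Subtype.ext (cj_mul ρ g⁻¹ y z).symm
      map_zero' := Subtype.ext (by simp [cj])
      map_add' := fun y z => Subtype.ext (by simp [cj, mul_add, add_mul])
      commutes' := fun r => Subtype.ext (by
        show cj ρ g⁻¹ (algebraMap _ _ r) = algebraMap _ _ r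
        rw [cj, ← Algebra.commutes, mul_assoc, rho_inv', mul_one]) }
    (AlgHom.ext fun y => Subtype.ext (by
      show cj ρ g (cj ρ g⁻¹ y) = y
      rw [cj_cj, mul_inv_cancel, cj_one]))
    (AlgHom.ext fun y => Subtype.ext (by
      show cj ρ g⁻¹ (cj ρ g y) = y
      rw [cj_cj, inv_mul_cancel, cj_one]))
  let gal : L →* (K ≃ₐ[ZMod p] K) := MonoidHom.mk' aut fun g h =>
    AlgEquiv.ext fun y => Subtype.ext (cj_cj ρ g h y).symm
  have hker : gal.ker ≤ C := fun g hg => Subgroup.mem_centralizer_iff.2 fun b hb => by
    have h1 : cj ρ g (ρ b) = ρ b := congrArg Subtype.val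
      (DFunLike.congr_fun (MonoidHom.mem_ker.1 hg) (⟨ρ b, Algebra.subset_adjoin ⟨b, hb, rfl⟩⟩ : K))
    rw [cj, ← map_mul, ← map_mul] at h1
    exact (mul_inv_eq_iff_eq_mul.1 (hinj h1)).symm
  have hidx : C.index ≤ a := by
    calc C.index ≤ gal.ker.index :=
          Nat.le_of_dvd (Nat.pos_of_ne_zero gal.ker.index_ne_zero_of_finite)
            (Subgroup.index_dvd_of_le hker)
      _ = Nat.card gal.range := Subgroup.index_ker _
      _ ≤ Nat.card (K ≃ₐ[ZMod p] K) := Subgroup.card_le_card_group _
      _ ≤ a := by
          haveI := Fintype.ofFinite (K ≃ₐ[ZMod p] K)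
          rw [Nat.card_eq_fintype_card]
          convert AlgEquiv.card_le (F := ZMod p) (K := K)
  -- the linear action of the centralizer
  have hlin : ∀ g ∈ C, ∀ y ∈ K, ρ g * y = y * ρ g := by
    intro g hg y hy
    induction hy using Algebra.adjoin_induction with
    | mem y hy =>
      obtain ⟨b, hb, rfl⟩ := hy
      rw [← map_mul, ← map_mul, Subgroup.mem_centralizer_iff.1 hg b hb]
    | algebraMap r => exact (Algebra.commutes r _).symm
    | add y z _ _ hy hz => rw [mul_add, add_mul, hy, hz]
    | mul y z _ _ hy hz => rw [← mul_assoc, hy, mul_assoc, hz, mul_assoc]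
  let τ : C →* Module.End K W :=
    { toFun := fun g =>
        { toFun := fun w => ρ (g : L) w
          map_add' := fun w w' => map_add _ w w'
          map_smul' := fun y w => LinearMap.congr_fun (hlin g g.2 y y.2) w }
      map_one' := LinearMap.ext fun w => by simp
      map_mul' := fun g h => LinearMap.ext fun w => by simp }
  obtain ⟨F, hF, hself⟩ := exists_layer A hAc hmax
  have hAC : A ≤ C := hF.le.trans hF.leC
  haveI := hF.norm
  obtain ⟨S⟩ : Nonempty (LayerData τ) := ⟨
    { A := A.subgroupOf C
      normA := inferInstance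
      F := F.subgroupOf C
      normF := inferInstance
      inj := fun g h hgh => Subtype.ext (hinj (LinearMap.ext fun w => LinearMap.congr_fun hgh w))
      cen := fun b hb g => Subtype.ext (Subgroup.mem_centralizer_iff.1 g.2 _ hb)
      ψ :=
        { toFun := fun b => ⟨ρ ((b : C) : L), Algebra.subset_adjoin ⟨_, b.2, rfl⟩⟩
          map_one' := Subtype.ext (map_one ρ)
          map_mul' := fun b b' => Subtype.ext (map_mul ρ _ _) }
      scalar := fun b w => rfl
      le := fun b hb => hF.le hb
      comm := fun y hy z hz => hF.comm _ hy _ hz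
      sqf := fun r hr y hy h => hF.sqf r hr _ hy h
      self := fun g hg => hself g g.2 fun y hy =>
        congrArg Subtype.val (hg ⟨y, hF.leC hy⟩ hy) }⟩
  haveI := S.isCyclic
  haveI : Group.IsSolvable C := inferInstance
  obtain ⟨e, hQe, hye⟩ := sq_bound (Nat.card S.Q) S.Q S.A S.pairing S.act.range rfl S.sqFreeExp
    S.preserves
  set y := Nat.card S.act.range with hy
  set z := Nat.card S.A with hz
  have hz0 : 0 < z := Nat.card_pos
  have hy0 : 0 < y := Nat.card_pos
  have hct : Nat.card (C ⧸ S.A) = e ^ 2 * y := by rw [S.card_quot, hQe]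
  have he1 : 1 ≤ e := by
    rcases Nat.eq_zero_or_pos e with rfl | h
    · exact absurd hQe (Nat.card_pos (α := S.Q)).ne'
    · exact h
  have heD : e ≤ D := by
    have := S.card_Q_le
    rw [hQe, ← hD] at this
    nlinarith
  have hLcard : Nat.card L ≤ a * (z * (e ^ 2 * y)) := by
    rw [← C.card_mul_index, mul_comm, ← hct, hz, ← Subgroup.index_eq_card,
      Subgroup.card_mul_index]
    exact Nat.mul_le_mul_right _ hidx
  have hzdvd : z ∣ p ^ a - 1 := by
    have hf : Function.Injective (S.ψ.toHomUnits) := fun b b' h =>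
      S.psi_injective (congrArg Units.val h)
    have := Subgroup.card_dvd_of_injective _ hf
    rwa [Nat.card_units, Module.natCard_eq_pow_finrank (K := ZMod p) (V := K), Nat.card_zmod] at this
  -- the pairing gives an element of order `r` among the scalars
  have hdvd : ∀ r : ℕ, r.Prime → r ∣ Nat.card S.Q → r ∣ z := by
    intro r hr hrQ
    obtain ⟨u, w, Q', β', Y', hu, -, huw, -⟩ :=
      step S.pairing S.sqFreeExp S.act.range S.preserves hr hrQ
    haveI := Fact.mk hr
    have : S.pairing.form u w ^ r = 1 := by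
      rw [← MonoidHom.pow_apply, ← map_pow, hu, map_one, MonoidHom.one_apply]
    rw [← orderOf_eq_prime this huw]
    exact orderOf_dvd_natCard _
  have hy2 : e = 2 → y ∣ 6 := by
    rintro rfl
    haveI := Fintype.ofFinite S.Q
    let f : S.act.range → Equiv.Perm {q : S.Q // q ≠ 1} := fun φ =>
      (φ : MulAut S.Q).toEquiv.subtypeEquiv fun q => by simp
    let fh : S.act.range →* Equiv.Perm {q : S.Q // q ≠ 1} :=
      MonoidHom.mk' f fun φ φ' => Equiv.ext fun q => rfl
    have hfi : Function.Injective fh := fun φ φ' h => by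
      refine Subtype.ext (MulEquiv.ext fun q => ?_)
      by_cases hq : q = 1
      · simp [hq]
      · exact congrArg Subtype.val (Equiv.congr_fun h ⟨q, hq⟩)
    have := Subgroup.card_dvd_of_injective fh hfi
    rwa [Nat.card_perm, Nat.card_eq_fintype_card (α := {q : S.Q // q ≠ 1}),
      Fintype.card_subtype_compl, Fintype.card_subtype_eq, ← Nat.card_eq_fintype_card, hQe,
      show Nat.factorial (2 ^ 2 - 1) = 6 from rfl] at this
  have hy3 : e = 3 → y ≤ 24 ∧ 3 ∣ p ^ a - 1 := by
    rintro rfl
    exact ⟨(small_bound S.pairing S.act.range S.sqFreeExp S.preserves).2.1 (by rw [hQe]; rfl),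
      (hdvd 3 Nat.prime_three (by rw [hQe]; exact ⟨3, rfl⟩)).trans hzdvd⟩
  have hy4 : e = 4 → y ≤ 72 := by
    rintro rfl
    exact solvable_sixteen S.pairing S.sqFreeExp S.act.range S.preserves S.range_solvable
      (by rw [hQe]; rfl)
  obtain ⟨g, hg⟩ := IsCyclic.exists_ofOrder_eq_natCard (α := S.A)
  refine ⟨a, D, z, e, y, ha1, had, he1, heD, hzdvd, fun r hr hre => hdvd r hr ?_, hye, hy2,
    fun h => (hy3 h).1, hy4, hLcard, ((g : C) : L), ?_, fun i v hv h => ?_⟩
  · rw [hQe]
    exact hre.trans (dvd_pow_self e two_ne_zero)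
  · rw [Subgroup.orderOf_coe, Subgroup.orderOf_coe, hg]
  · have h1 : S.ψ (g ^ i) • v = (1 : K) • v := by
      rw [one_smul, ← S.scalar]
      simpa [τ] using h
    have h2 : g ^ i = 1 := S.psi_injective (by
      rw [map_one]
      exact smul_left_injective K hv h1)
    simpa using congrArg (fun t : S.A => ((t : C) : L)) h2

/-- the block case -/
theorem system_case {k : Type} [Field k] {H : Type u} [Group H] [Finite H] {V : Type u}
    [AddCommGroup V] [Module k V] [Finite V] (hsol : Group.IsSolvable H)
    (ρ : Representation k H V) (hirr : Irr ρ) (hinj : Function.Injective ρ)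
    {E : Finset (Module.End k V)} (hE : System ρ E) (h2 : 2 ≤ E.card) :
    ∃ (W : Submodule k V) (L : Subgroup (Module.End k W)ˣ),
      Group.IsSolvable L ∧ Nontrivial W ∧ Irr (unitsRep L) ∧
      E.card * Module.finrank k W = Module.finrank k V ∧
      ∀ b : ℕ, Bd L b → Bd H (b ^ E.card * 2 ^ (E.card - 1)) := by
  classical
  haveI : Finite (Module.End k V) := DFunLike.finite _
  obtain ⟨e, he⟩ : E.Nonempty := Finset.card_pos.1 (by omega)
  set W := LinearMap.range e with hWdef
  have hW : ∀ x, x ∈ W ↔ e x = x := fun x => ⟨by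
      rintro ⟨y, rfl⟩; exact LinearMap.congr_fun (hE.idem e he) y, fun h => ⟨x, h⟩⟩
  have hWne : Nontrivial W := by
    rw [Submodule.nontrivial_iff_ne_bot, Ne, hWdef, LinearMap.range_eq_bot]
    exact hE.ne e he
  have htr := fun g : E => hE.transitive hirr he g.2
  choose rep hrep using htr
  let N : Subgroup H :=
    { carrier := {h | cj ρ h e = e}
      one_mem' := cj_one ρ e
      mul_mem' := fun {a b} ha hb => by
        show cj ρ (a * b) e = e
        rw [← cj_cj, hb, ha]
      inv_mem' := fun {a} ha => by
        show cj ρ a⁻¹ e = e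
        conv_lhs => rw [← show cj ρ a e = e from ha, cj_cj, inv_mul_cancel, cj_one] }
  have hcjW : ∀ h, ∀ w ∈ W, cj ρ h e (ρ h w) = ρ h w := fun h w hw => by
    rw [cj_apply, (hW w).1 hw]
  have hNW : ∀ n ∈ N, ∀ w ∈ W, ρ n w ∈ W := by
    intro n hn w hw
    have := hcjW n w hw
    rw [show cj ρ n e = e from hn] at this
    exact (hW _).2 this
  let res : N →* Module.End k W :=
    { toFun := fun n => (ρ (n : H)).restrict (hNW n n.2)
      map_one' := LinearMap.ext fun w => Subtype.ext (by simp)
      map_mul' := fun a b => LinearMap.ext fun w => Subtype.ext (by simp) }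
  set L := res.toHomUnits.range with hL
  have hres : ∀ (n : N) (w : W),
      ((unitsRep L (res.toHomUnits.rangeRestrict n) w : W) : V) = ρ (n : H) w := fun _ _ => rfl
  haveI := hsol
  refine ⟨W, L, solvable_of_surjective res.toHomUnits.rangeRestrict_surjective, hWne, ?_, ?_, ?_⟩
  · -- irreducible
    intro U hU
    by_cases hU0 : U = ⊥
    · exact Or.inl hU0
    refine Or.inr (eq_top_iff.2 fun w _ => ?_)
    set S : Set V := {v | ∃ h, ∃ u ∈ U, ρ h (u : W) = v} with hS
    rcases hirr (Submodule.span k S) (fun h v hv => by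
        induction hv using Submodule.span_induction with
        | mem x hx =>
          obtain ⟨g, u, hu, rfl⟩ := hx
          exact Submodule.subset_span ⟨h * g, u, hu, by rw [map_mul]; rfl⟩
        | zero => simp
        | add x y _ _ hx hy => rw [map_add]; exact add_mem hx hy
        | smul c x _ hx => rw [map_smul]; exact Submodule.smul_mem _ c hx) with h0 | h1
    · exfalso
      obtain ⟨u, hu, hu0⟩ := Submodule.exists_mem_ne_zero_of_ne_bot hU0
      have : (u : V) ∈ Submodule.span k S :=
        Submodule.subset_span ⟨1, u, hu, by simp⟩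
      rw [h0, Submodule.mem_bot] at this
      exact hu0 (Subtype.ext this)
    · have key : ∀ v ∈ Submodule.span k S, e v ∈ U.map W.subtype := by
        intro v hv
        induction hv using Submodule.span_induction with
        | mem x hx =>
          obtain ⟨g, u, hu, rfl⟩ := hx
          by_cases hg : g ∈ N
          · rw [(hW _).1 (hNW g hg u u.2)]
            exact ⟨_, hU (res.toHomUnits.rangeRestrict ⟨g, hg⟩) u hu, rfl⟩
          · have h0 : e * cj ρ g e = 0 := hE.orth e he _ (hE.stable g e he) (Ne.symm hg)
            rw [← hcjW g u u.2, ← Module.End.mul_apply, h0]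
            exact Submodule.zero_mem _
        | zero => simp
        | add x y _ _ hx hy => rw [map_add]; exact add_mem hx hy
        | smul c x _ hx => rw [map_smul]; exact Submodule.smul_mem _ c hx
      obtain ⟨u, hu, huw⟩ := key (w : V) (h1 ▸ Submodule.mem_top)
      rw [(hW _).1 w.2] at huw
      rwa [← show u = w from Subtype.ext huw]
  · -- the decomposition
    have hmem : ∀ (g : E) (v : V), ρ (rep g)⁻¹ ((g : Module.End k V) v) ∈ W := by
      intro g v
      refine (hW _).2 ?_
      have h1 := cj_apply ρ (rep g) e (ρ (rep g)⁻¹ ((g : Module.End k V) v))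
      rw [rho_inv_apply', hrep] at h1
      rw [show (g : Module.End k V) ((g : Module.End k V) v) = (g : Module.End k V) v from
        LinearMap.congr_fun (hE.idem g g.2) v] at h1
      have h2 := congrArg (ρ (rep g)⁻¹) h1
      rw [rho_inv_apply] at h2
      exact h2.symm
    let Φ : V →ₗ[k] E → W := LinearMap.pi fun g =>
      LinearMap.codRestrict W ((ρ (rep g)⁻¹).comp (g : Module.End k V)) (hmem g)
    have hΦ : Function.Bijective Φ := by
      refine ⟨fun a b hab => ?_, fun f => ?_⟩
      · have h1 : ∀ g ∈ E, g a = g b := fun g hg => by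
          have h2 := congrArg (fun t => ρ (rep ⟨g, hg⟩) ((t ⟨g, hg⟩ : W) : V)) hab
          simpa [Φ, rho_inv_apply'] using h2
        calc a = (∑ g ∈ E, g) a := by rw [hE.sum]; rfl
          _ = (∑ g ∈ E, g) b := by
            rw [LinearMap.sum_apply, LinearMap.sum_apply]
            exact Finset.sum_congr rfl h1
          _ = b := by rw [hE.sum]; rfl
      · refine ⟨∑ g : E, ρ (rep g) (f g : V), funext fun g => Subtype.ext ?_⟩
        show ρ (rep g)⁻¹ ((g : Module.End k V) (∑ g' : E, ρ (rep g') (f g' : V))) = _
        rw [map_sum, Finset.sum_eq_single g]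
        · rw [← hrep g, hcjW _ _ (f g).2, rho_inv_apply]
        · intro g' _ hne
          rw [← hcjW (rep g') _ (f g').2, hrep g']
          exact LinearMap.congr_fun (hE.orth g g.2 g' g'.2
            (fun h => hne (Subtype.ext h.symm))) _
        · simp
    haveI : Module.Finite k V := Module.Finite.of_finite
    haveI : Module.Finite k W := Module.Finite.of_finite
    rw [(LinearEquiv.ofBijective Φ hΦ).finrank_eq, Module.finrank_pi_fintype, Finset.sum_const,
      Finset.card_univ, Fintype.card_coe, smul_eq_mul]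
  · -- the classes
    intro b hb
    let π : H →* Equiv.Perm E :=
      { toFun := fun h =>
          { toFun := fun g => ⟨cj ρ h g, hE.stable h g g.2⟩
            invFun := fun g => ⟨cj ρ h⁻¹ g, hE.stable _ g g.2⟩
            left_inv := fun g => Subtype.ext (by simp [cj_cj, cj_one])
            right_inv := fun g => Subtype.ext (by simp [cj_cj, cj_one]) }
        map_one' := Equiv.ext fun g => Subtype.ext (cj_one ρ _)
        map_mul' := fun a b => Equiv.ext fun g => Subtype.ext (cj_cj ρ a b _).symm }
    haveI : Nonempty E := ⟨⟨e, he⟩⟩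
    have hperm : Bd (Equiv.Perm E) (2 ^ (E.card - 1)) := by
      have := Bd.perm (Ω := E)
      rwa [Nat.card_eq_finsetCard] at this
    refine Bd.of_ker π ?_ hperm
    have hfix : ∀ (g : E), ∀ c ∈ π.ker, (rep g)⁻¹ * c * rep g ∈ N := by
      intro g c hc
      show cj ρ _ e = e
      rw [← cj_cj, hrep]
      rw [← cj_cj, show cj ρ c (g : Module.End k V) = g from congrArg Subtype.val
        (Equiv.congr_fun (MonoidHom.mem_ker.1 hc) g)]
      conv_lhs => rw [← hrep g, cj_cj, inv_mul_cancel, cj_one]
    let f : E → π.ker →* L := fun g =>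
      res.toHomUnits.rangeRestrict.comp (MonoidHom.codRestrict
        ((MulAut.conj (rep g)⁻¹).toMonoidHom.comp π.ker.subtype) N fun c => by
          simpa using hfix g c c.2)
    have := Bd.family (G := π.ker) (Finset.univ : Finset E) (L := fun _ => L) f (fun _ => b)
      (fun _ _ => hb) fun c hc => ?_
    · rwa [Finset.prod_const, Finset.card_univ, Fintype.card_coe] at this
    · have hline : ∀ (g : E) (x : V), ρ (c : H) ((g : Module.End k V) x) = (g : Module.End k V) x := by
        intro g x
        set w := e (ρ (rep g)⁻¹ x) with hw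
        have hgx : (g : Module.End k V) x = ρ (rep g) w := by
          rw [hw, ← cj_apply, hrep, rho_inv_apply']
        have h1 := hres ⟨_, hfix g c c.2⟩ ⟨w, ⟨_, rfl⟩⟩
        have h0 := hc g (Finset.mem_univ g)
        have h0' : res.toHomUnits.rangeRestrict ⟨_, hfix g c c.2⟩ = 1 := by
          rw [← h0]
          refine congrArg res.toHomUnits.rangeRestrict (Subtype.ext ?_)
          simp [MulAut.conj_apply]
        rw [h0', map_one] at h1
        have h2 := congrArg (ρ (rep g)) h1.symm
        simp only [map_mul, Module.End.mul_apply, rho_inv_apply'] at h2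
        rw [hgx]
        exact h2
      refine Subtype.ext (hinj (LinearMap.ext fun v => ?_))
      show ρ (c : H) v = ρ 1 v
      rw [map_one, Module.End.one_apply]
      calc ρ (c : H) v = ρ (c : H) ((∑ g ∈ E, g) v) := by rw [hE.sum]; rfl
        _ = (∑ g ∈ E, g) v := by
          simp only [LinearMap.sum_apply, map_sum]
          exact Finset.sum_congr rfl fun g hg => hline ⟨g, hg⟩ v
        _ = v := by rw [hE.sum]; rfl

end Cfsg.Agent.LinClasses
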