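import Cfsg.Agent.LinClasses.SympMain
import Cfsg.Agent.Lib.Cores.Fitting
import Cfsg.Agent.Lib.AltSection.ReduceBasics

/-!
# Classes of solvable complex linear groups modulo the Fitting subgroup
-/

set_option autoImplicit false

namespace Cfsg.Agent.LinClasses

open ClassNumber Cores
open scoped commutatorElement

universe u v w

local notation "Fit" => Cfsg.fittingSubgroup

variable {G : Type u} [Group G]

theorem Bd.of_surjective [Finite G] {K : Type v} [Group K] {b : ℕ} (f : G →* K)
    (hf : Function.Surjective f) (h : Bd G b) : Bd K b := by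
  intro X
  refine le_trans ?_ (h (X.comap f))
  refine ClassNumber.card_conjClasses_le_of_surjective (f.subgroupComap X) fun y => ?_
  obtain ⟨x, hx⟩ := hf y
  exact ⟨⟨x, show f x ∈ X by rw [hx]; exact y.2⟩, Subtype.ext hx⟩

/-- quotients by Fitting subgroups along a jointly injective family -/
theorem bd_fitting_family [Finite G] {ι : Type*} [Fintype ι] {L : ι → Type w} [∀ i, Group (L i)]
    (f : ∀ i, G →* L i) (hf : ∀ i, Function.Surjective (f i))
    (hinj : ∀ x, (∀ i, f i x = 1) → x = 1) (b : ι → ℕ) (hb : ∀ i, Bd (L i ⧸ Fit (L i)) (b i)) :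
    Bd (G ⧸ Fit G) (∏ i, b i) := by
  classical
  haveI : ∀ i, Finite (L i) := fun i => Finite.of_surjective _ (hf i)
  have hle : ∀ i, Fit G ≤ (Fit (L i)).comap (f i) := fun i =>
    Subgroup.map_le_iff_le_comap.1 (map_fittingSubgroup_le (hf i))
  refine Bd.family (Finset.univ : Finset ι)
    (fun i => QuotientGroup.map (Fit G) (Fit (L i)) (f i) (hle i)) b (fun i _ => hb i) ?_
  intro q hq
  obtain ⟨x, rfl⟩ := QuotientGroup.mk_surjective q
  set N : Subgroup G := ⨅ i, (Fit (L i)).comap (f i) with hN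
  have hxN : x ∈ N := by
    rw [hN, Subgroup.mem_iInf]
    intro i
    have := hq i (Finset.mem_univ i)
    rw [QuotientGroup.map_mk, QuotientGroup.eq_one_iff] at this
    exact this
  haveI : N.Normal := Subgroup.normal_iInf_normal fun i => inferInstance
  haveI : ∀ i, Group.IsNilpotent (Fit (L i)) := fun i => fittingSubgroup_isNilpotent
  let φ : N →* ∀ i, Fit (L i) := MonoidHom.pi fun i =>
    MonoidHom.codRestrict ((f i).comp N.subtype) (Fit (L i)) fun y => Subgroup.mem_iInf.1 y.2 i
  have hφ : Function.Injective φ := by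
    rw [injective_iff_map_eq_one]
    intro y hy
    exact Subtype.ext (hinj y fun i => congrArg Subtype.val (congrFun hy i))
  have hnil : Group.IsNilpotent N :=
    Group.nilpotent_of_mulEquiv (MonoidHom.ofInjective hφ).symm
  exact (QuotientGroup.eq_one_iff x).2 (le_fittingSubgroup hnil hxN)

/-- a normal subgroup inside the kernel of a permutation action -/
theorem bd_fitting_perm [Finite G] {Ω : Type*} [Finite Ω] [Nonempty Ω] (π : G →* Equiv.Perm Ω)
    {a : ℕ} (ha : Bd (π.ker ⧸ Fit π.ker) a) :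
    Bd (G ⧸ Fit G) (a * 2 ^ (Nat.card Ω - 1)) := by
  classical
  have hq : Bd (G ⧸ π.ker) (2 ^ (Nat.card Ω - 1)) :=
    Bd.of_injective (QuotientGroup.kerLift π) (QuotientGroup.kerLift_injective π) Bd.perm
  set M : Subgroup G := π.ker ⊔ Fit G with hM
  have hq' : Bd (G ⧸ M) (2 ^ (Nat.card Ω - 1)) := by
    refine hq.of_surjective (QuotientGroup.map π.ker M (MonoidHom.id G) le_sup_left) fun y => ?_
    obtain ⟨x, rfl⟩ := QuotientGroup.mk_surjective y
    exact ⟨QuotientGroup.mk x, rfl⟩
  let f : G ⧸ Fit G →* G ⧸ M := QuotientGroup.map (Fit G) M (MonoidHom.id G) le_sup_right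
  refine Bd.of_ker f ?_ hq'
  have hle : Fit π.ker ≤ (Fit G).comap π.ker.subtype :=
    Subgroup.map_le_iff_le_comap.1 (map_fittingSubgroup_subtype_le π.ker)
  let h : π.ker ⧸ Fit π.ker →* G ⧸ Fit G := QuotientGroup.map _ _ π.ker.subtype hle
  have hmem : ∀ q, h q ∈ f.ker := by
    intro q
    obtain ⟨x, rfl⟩ := QuotientGroup.mk_surjective q
    show f (QuotientGroup.mk (x : G)) = 1
    exact (QuotientGroup.eq_one_iff _).2 (Subgroup.mem_sup_left x.2)
  refine Bd.of_surjective (h.codRestrict f.ker hmem) (fun q => ?_) ha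
  obtain ⟨x, hx⟩ := QuotientGroup.mk_surjective (q : G ⧸ Fit G)
  have hxM : x ∈ M := by
    have := q.2
    rw [← hx, MonoidHom.mem_ker] at this
    exact (QuotientGroup.eq_one_iff _).1 this
  obtain ⟨y, hy, z, hz, rfl⟩ := Subgroup.mem_sup_of_normal_right.1 hxM
  refine ⟨QuotientGroup.mk ⟨y, hy⟩, Subtype.ext ?_⟩
  rw [← hx]
  show (QuotientGroup.mk y : G ⧸ Fit G) = QuotientGroup.mk (y * z)
  exact QuotientGroup.eq.2 (by rwa [inv_mul_cancel_left])

section Linear

variable {V : Type w} [AddCommGroup V] [Module ℂ V]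

/-- the action on an invariant subspace -/
def resHom (ρ : Representation ℂ G V) (W : Submodule ℂ V) (hW : ∀ g, ∀ x ∈ W, ρ g x ∈ W) :
    Representation ℂ G W where
  toFun g := (ρ g).restrict (hW g)
  map_one' := LinearMap.ext fun x => Subtype.ext (by simp)
  map_mul' a b := LinearMap.ext fun x => Subtype.ext (by simp)

/-- the action on a quotient -/
def quotHom (ρ : Representation ℂ G V) (W : Submodule ℂ V) (hW : ∀ g, ∀ x ∈ W, ρ g x ∈ W) :
    Representation ℂ G (V ⧸ W) where
  toFun g := W.mapQ W (ρ g) fun x hx => hW g x hx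
  map_one' := LinearMap.ext fun x => by
    obtain ⟨x, rfl⟩ := W.mkQ_surjective x; simp
  map_mul' a b := LinearMap.ext fun x => by
    obtain ⟨x, rfl⟩ := W.mkQ_surjective x; simp

/-- the statement in a given dimension -/
def MainAt (n : ℕ) : Prop :=
  ∀ (G : Type u) [Group G] [Finite G] (V : Type w) [AddCommGroup V] [Module ℂ V]
    [FiniteDimensional ℂ V] (ρ : Representation ℂ G V), Group.IsSolvable G →
      Function.Injective ρ → Module.finrank ℂ V = n → Bd (G ⧸ Fit G) (3 ^ (n - 1))

/-- the image of a group in a smaller dimension -/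
theorem image_bd [Finite G] [Group.IsSolvable G] {U : Type w} [AddCommGroup U] [Module ℂ U]
    [FiniteDimensional ℂ U] (σ : Representation ℂ G U) {n : ℕ}
    (ih : ∀ m < n, MainAt.{u, w} m) (hU : Module.finrank ℂ U < n) :
    Bd ((G ⧸ σ.ker) ⧸ Fit (G ⧸ σ.ker)) (3 ^ (Module.finrank ℂ U - 1)) := by
  have hs : Group.IsSolvable (G ⧸ σ.ker) :=
    solvable_of_surjective (QuotientGroup.mk'_surjective σ.ker)
  let τ : Representation ℂ (G ⧸ σ.ker) U := QuotientGroup.lift σ.ker σ le_rfl
  have hi : Function.Injective τ := by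
    intro p q
    obtain ⟨a, rfl⟩ := QuotientGroup.mk_surjective p
    obtain ⟨b, rfl⟩ := QuotientGroup.mk_surjective q
    intro hpq
    change σ a = σ b at hpq
    refine QuotientGroup.eq.2 (MonoidHom.mem_ker.2 ?_)
    rw [map_mul, ← hpq, ← map_mul, inv_mul_cancel, map_one]
  exact ih _ hU (G ⧸ σ.ker) U τ hs hi rfl

/-- reducible groups -/
theorem reducible_bd [Finite G] [Group.IsSolvable G] [FiniteDimensional ℂ V]
    (ρ : Representation ℂ G V) (hinj : Function.Injective ρ) {n : ℕ}
    (hn : Module.finrank ℂ V = n) (ih : ∀ m < n, MainAt.{u, w} m) (W : Submodule ℂ V)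
    (hW : ∀ g, ∀ x ∈ W, ρ g x ∈ W) (h0 : W ≠ ⊥) (h1 : W ≠ ⊤) :
    Bd (G ⧸ Fit G) (3 ^ (n - 1)) := by
  have hd := W.finrank_quotient_add_finrank
  have hW0 : 0 < Module.finrank ℂ W := by
    rw [Module.finrank_pos_iff]
    exact Submodule.nontrivial_iff_ne_bot.2 h0
  have hW1 : Module.finrank ℂ W < n := hn ▸ Submodule.finrank_lt h1
  rw [hn] at hd
  let N : Bool → Subgroup G := fun b =>
    bif b then (resHom ρ W hW).ker else (quotHom ρ W hW).ker
  haveI : ∀ b, (N b).Normal := fun b => by cases b <;> exact MonoidHom.normal_ker _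
  let c : Bool → ℕ := fun b => bif b then 3 ^ (Module.finrank ℂ W - 1)
    else 3 ^ (Module.finrank ℂ (V ⧸ W) - 1)
  refine (bd_fitting_family (fun b => QuotientGroup.mk' (N b)) ?_ ?_ c ?_).mono ?_
  · intro b; exact QuotientGroup.mk'_surjective _
  · intro g hg
    have e1 : resHom ρ W hW g = 1 := (QuotientGroup.eq_one_iff g).1 (hg true)
    have e2 : quotHom ρ W hW g = 1 := (QuotientGroup.eq_one_iff g).1 (hg false)
    set N : Module.End ℂ V := ρ g - 1 with hN
    have h2 : ∀ x, N x ∈ W := fun x => by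
      have := LinearMap.congr_fun e2 (W.mkQ x)
      rw [Module.End.one_apply] at this
      exact (Submodule.Quotient.eq W).1 this
    have h3 : ∀ x, x ∈ W → N x = 0 := fun x hx => by
      have := congrArg Subtype.val (LinearMap.congr_fun e1 ⟨x, hx⟩)
      exact sub_eq_zero.2 this
    have hNN : ∀ x, N (N x) = 0 := fun x => h3 _ (h2 x)
    have hpow : ∀ (j : ℕ) x, ρ (g ^ j) x = x + (j : ℂ) • N x := by
      intro j
      induction j with
      | zero => intro x; simp
      | succ j ihj =>
        intro x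
        have hρg : ∀ y, ρ g y = y + N y := fun y => by simp [hN]
        rw [pow_succ', map_mul, Module.End.mul_apply, ihj, hρg, map_add, map_smul, hNN,
          smul_zero, add_zero, Nat.cast_succ, add_smul, one_smul]
        abel
    refine hinj (LinearMap.ext fun x => ?_)
    have := hpow (orderOf g) x
    rw [pow_orderOf_eq_one, map_one, Module.End.one_apply, left_eq_add] at this
    have hx : N x = 0 := (smul_eq_zero.1 this).resolve_left
      (Nat.cast_ne_zero.2 (orderOf_pos g).ne')
    rw [map_one, Module.End.one_apply]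
    exact sub_eq_zero.1 hx
  · intro b
    cases b
    · exact image_bd _ ih (by omega)
    · exact image_bd _ ih hW1
  · rw [Fintype.prod_bool]
    simp only [c, cond_true, cond_false, ← pow_add]
    exact Nat.pow_le_pow_right (by norm_num) (by omega)

end Linear

section Field

variable {k : Type} [Field k] {V : Type w} [AddCommGroup V] [Module k V]

/-- the elements acting as scalars -/
def scalarSub (ρ : Representation k G V) : Subgroup G where
  carrier := {g | ∃ c : k, ∀ x, ρ g x = c • x}
  one_mem' := ⟨1, by simp⟩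
  mul_mem' := fun {a b} ⟨c, hc⟩ ⟨d, hd⟩ => ⟨c * d, fun x => by
    rw [map_mul, Module.End.mul_apply, hd, map_smul, hc, smul_smul, mul_comm]⟩
  inv_mem' := fun {a} ⟨c, hc⟩ => by
    by_cases h0 : c = 0
    · subst h0
      have hz : ∀ x : V, x = 0 := fun x => by
        rw [← rho_inv_apply ρ a x, hc, zero_smul, map_zero]
      exact ⟨1, fun x => (hz _).trans (hz _).symm⟩
    · refine ⟨c⁻¹, fun x => ?_⟩
      have := hc (ρ a⁻¹ x)
      rw [rho_inv_apply'] at this
      conv_rhs => rw [this]
      rw [inv_smul_smul₀ h0]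

/-- a nonscalar abelian normal subgroup -/
theorem imprimitive_data [IsAlgClosed k] [Finite G] [FiniteDimensional k V] [Nontrivial V]
    (ρ : Representation k G V) {n : ℕ} (hn : Module.finrank k V = n) (hirr : Irr ρ) (A : Subgroup G)
    [hA : A.Normal] (hAc : ∀ a ∈ A, ∀ b ∈ A, a * b = b * a) (hAns : ¬ A ≤ scalarSub ρ) :
    ∃ (E : Type u) (_ : Fintype E) (π : G →* Equiv.Perm E) (U : E → Submodule k V)
      (_ : ∀ i, ∀ b : π.ker, ∀ x ∈ U i, ρ (b : G) x ∈ U i),
      Nonempty E ∧ (∑ i, Module.finrank k (U i) ≤ n) ∧ (∀ i, 1 ≤ Module.finrank k (U i)) ∧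
      (∀ i, Module.finrank k (U i) < n) ∧
      ∀ g : G, (∀ i, ∀ x ∈ U i, ρ g x = x) → ρ g = 1 := by
  classical
  haveI : Fintype A := Fintype.ofFinite A
  let Vc : (A → k) → Submodule k V := fun χ => ⨅ a : A, LinearMap.ker (ρ (a : G) - χ a • 1)
  have hVc : ∀ {χ : A → k} {x : V}, x ∈ Vc χ ↔ ∀ a : A, ρ (a : G) x = χ a • x := by
    intro χ x
    simp [Vc, Submodule.mem_iInf, sub_eq_zero]
  let E : Set (A → k) := {χ | Vc χ ≠ ⊥}
  -- the operation on the characters
  let act : G → (A → k) → A → k := fun g χ a =>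
    χ ⟨g⁻¹ * a * g, by simpa using hA.conj_mem _ a.2 g⁻¹⟩
  have hmove : ∀ (g : G) (χ : A → k) (x : V), x ∈ Vc χ → ρ g x ∈ Vc (act g χ) := by
    intro g χ x hx
    refine hVc.2 fun a => ?_
    have h1 := hVc.1 hx ⟨g⁻¹ * a * g, by simpa using hA.conj_mem _ a.2 g⁻¹⟩
    have h2 := congrArg (ρ g) h1
    rw [map_smul, map_mul, map_mul] at h2
    simp only [Module.End.mul_apply, rho_inv_apply'] at h2
    exact h2
  have hactE : ∀ (g : G) (χ : A → k), χ ∈ E → act g χ ∈ E := by
    intro g χ hχ
    obtain ⟨x, hx, hx0⟩ := Submodule.exists_mem_ne_zero_of_ne_bot hχ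
    refine fun h => hx0 ?_
    have h2 := hmove g χ x hx
    rw [h, Submodule.mem_bot] at h2
    rw [← rho_inv_apply ρ g x, h2, map_zero]
  have hact_one : ∀ χ, act 1 χ = χ := fun χ => funext fun a => congrArg χ (Subtype.ext (by simp))
  have hact_mul : ∀ g h χ, act (g * h) χ = act g (act h χ) := fun g h χ =>
    funext fun a => congrArg χ (Subtype.ext (by simp [mul_assoc]))
  let hom : E → (A →* k) := fun χ =>
    { toFun := χ.1
      map_one' := by
        obtain ⟨x, hx, hx0⟩ := Submodule.exists_mem_ne_zero_of_ne_bot χ.2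
        have := hVc.1 hx 1
        rw [OneMemClass.coe_one, map_one, Module.End.one_apply] at this
        exact (smul_left_injective k hx0 (by simpa using this.symm))
      map_mul' := fun a b => by
        obtain ⟨x, hx, hx0⟩ := Submodule.exists_mem_ne_zero_of_ne_bot χ.2
        have := hVc.1 hx (a * b)
        rw [Subgroup.coe_mul, map_mul, Module.End.mul_apply, hVc.1 hx b, map_smul, hVc.1 hx a,
          smul_smul] at this
        exact (smul_left_injective k hx0 (by simpa [mul_comm] using this.symm)) }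
  have hom_inj : Function.Injective hom := fun a b h =>
    Subtype.ext (funext fun x => DFunLike.congr_fun h x)
  haveI : Finite E :=
    ((linearIndependent_monoidHom A k).comp hom hom_inj).finite
  haveI : Fintype E := Fintype.ofFinite E
  -- the eigenspaces together
  let Φ : ((χ : E) → Vc χ.1) →ₗ[k] V :=
    ∑ χ : E, (Vc χ.1).subtype.comp (LinearMap.proj χ)
  have hΦ : Function.Injective Φ := by
    rw [injective_iff_map_eq_zero]
    intro f hf
    by_contra hne
    obtain ⟨χ₀, h0⟩ := Function.ne_iff.1 hne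
    let T : {χ : E // f χ ≠ 0} → V := fun χ => (f χ.1 : V)
    have hT := AltSection.indep_chars (fun χ : {χ : E // f χ ≠ 0} => hom χ.1)
      (fun a b h => Subtype.ext (hom_inj h)) (fun a : A => ρ (a : G)) T
      (fun χ h => χ.2 (Subtype.ext h)) fun χ a => hVc.1 (f χ.1).2 a
    rw [Fintype.linearIndependent_iff] at hT
    have hsum : ∑ χ : {χ : E // f χ ≠ 0}, (1 : k) • T χ = 0 := by
      simp only [one_smul, T]
      rw [← Finset.sum_subtype (Finset.univ.filter fun χ : E => f χ ≠ 0) (by simp)
        (fun χ : E => (f χ : V)), Finset.sum_filter]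
      refine Eq.trans ?_ hf
      simp only [Φ, LinearMap.sum_apply, LinearMap.comp_apply, LinearMap.proj_apply,
        Submodule.subtype_apply]
      refine Finset.sum_congr rfl fun χ _ => ?_
      split_ifs with h
      · rfl
      · simp [not_not.1 h]
    exact one_ne_zero (hT _ hsum ⟨χ₀, h0⟩)
  have hsum : ∑ χ : E, Module.finrank k (Vc χ.1) ≤ n := by
    rw [← Module.finrank_pi_fintype k, ← hn]
    exact LinearMap.finrank_le_finrank_of_injective hΦ
  -- a common eigenvector
  obtain ⟨χ₁, x₁, hx₁, hχ₁⟩ := AltSection.exists_common_eigen (fun a : A => ρ (a : G))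
    fun a b x => by
      rw [← Module.End.mul_apply, ← map_mul, hAc a a.2 b b.2, map_mul, Module.End.mul_apply]
  have hE₁ : χ₁ ∈ E := fun h => hx₁ ((Submodule.eq_bot_iff _).1 h x₁ (hVc.2 hχ₁))
  have hspan : (⨆ χ : E, Vc χ.1) = ⊤ := by
    refine (hirr _ fun g x hx => ?_).resolve_left fun h => ?_
    · induction hx using Submodule.iSup_induction' with
      | mem χ y hy =>
        exact Submodule.mem_iSup_of_mem ⟨act g χ.1, hactE g _ χ.2⟩ (hmove g _ _ hy)
      | zero => simp
      | add y z _ _ hy hz => rw [map_add]; exact add_mem hy hz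
    · exact hx₁ ((Submodule.eq_bot_iff _).1 h x₁
        (Submodule.mem_iSup_of_mem ⟨χ₁, hE₁⟩ (hVc.2 hχ₁)))
  haveI : Nonempty E := ⟨⟨χ₁, hE₁⟩⟩
  let π : G →* Equiv.Perm E :=
    { toFun := fun g =>
        { toFun := fun χ => ⟨act g χ.1, hactE g _ χ.2⟩
          invFun := fun χ => ⟨act g⁻¹ χ.1, hactE _ _ χ.2⟩
          left_inv := fun χ => Subtype.ext (by simp [← hact_mul, hact_one])
          right_inv := fun χ => Subtype.ext (by simp [← hact_mul, hact_one]) }
      map_one' := Equiv.ext fun χ => Subtype.ext (hact_one _)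
      map_mul' := fun a b => Equiv.ext fun χ => Subtype.ext (hact_mul a b _) }
  have hpos : ∀ χ : E, 1 ≤ Module.finrank k (Vc χ.1) := fun χ => by
    rw [Nat.one_le_iff_ne_zero, Ne, Submodule.finrank_eq_zero]
    exact χ.2
  have hlt : ∀ χ : E, Module.finrank k (Vc χ.1) < n := by
    intro χ
    rw [← hn]
    refine Submodule.finrank_lt fun h => hAns fun a ha => ⟨χ.1 ⟨a, ha⟩, fun x => ?_⟩
    exact hVc.1 (h ▸ Submodule.mem_top : x ∈ Vc χ.1) ⟨a, ha⟩
  have hinv : ∀ χ : E, ∀ b : π.ker, ∀ x ∈ Vc χ.1, ρ (b : G) x ∈ Vc χ.1 := by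
    intro χ b x hx
    have := hmove b _ _ hx
    rwa [show act b χ.1 = χ.1 from congrArg Subtype.val
      (Equiv.congr_fun (MonoidHom.mem_ker.1 b.2) χ)] at this
  refine ⟨E, inferInstance, π, fun χ => Vc χ.1, hinv, inferInstance, hsum, hpos, hlt, fun g hg => ?_⟩
  refine LinearMap.ext fun x => ?_
  rw [Module.End.one_apply]
  have hx : x ∈ ⨆ χ : E, Vc χ.1 := hspan ▸ Submodule.mem_top
  induction hx using Submodule.iSup_induction' with
  | mem χ y hy => exact hg χ y hy
  | zero => simp
  | add y z _ _ hy hz => rw [map_add, hy, hz]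

/-- assembling the blocks -/
theorem imprimitive_combine [Finite G] {E : Type u} [Fintype E] [Nonempty E]
    (π : G →* Equiv.Perm E) {L : E → Type u} [∀ i, Group (L i)] (f : ∀ i, π.ker →* L i)
    (hf : ∀ i, Function.Surjective (f i)) (hinj : ∀ x, (∀ i, f i x = 1) → x = 1) (d : E → ℕ)
    (hd : ∀ i, 1 ≤ d i) (hb : ∀ i, Bd (L i ⧸ Fit (L i)) (3 ^ (d i - 1))) {n : ℕ}
    (hsum : ∑ i, d i ≤ n) : Bd (G ⧸ Fit G) (3 ^ (n - 1)) := by
  classical
  refine (bd_fitting_perm π (bd_fitting_family f hf hinj (fun i => 3 ^ (d i - 1)) hb)).mono ?_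
  rw [Finset.prod_pow_eq_pow_sum]
  calc 3 ^ (∑ i : E, (d i - 1)) * 2 ^ (Nat.card E - 1)
      ≤ 3 ^ (∑ i : E, (d i - 1)) * 3 ^ (Nat.card E - 1) :=
        Nat.mul_le_mul_left _ (Nat.pow_le_pow_left (by norm_num) _)
    _ ≤ _ := by
      rw [← pow_add]
      refine Nat.pow_le_pow_right (by norm_num) ?_
      have h1 : ∑ i : E, (d i - 1) + Nat.card E = ∑ i : E, d i := by
        rw [Nat.card_eq_fintype_card, ← Finset.card_univ, Finset.card_eq_sum_ones,
          ← Finset.sum_add_distrib]
        exact Finset.sum_congr rfl fun i _ => Nat.sub_add_cancel (hd i)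
      have : 0 < Nat.card E := Nat.card_pos
      omega

/-- the action on an invariant subspace, any field -/
def resHom' (ρ : Representation k G V) (W : Submodule k V) (hW : ∀ g, ∀ x ∈ W, ρ g x ∈ W) :
    Representation k G W where
  toFun g := (ρ g).restrict (hW g)
  map_one' := LinearMap.ext fun x => Subtype.ext (by simp)
  map_mul' a b := LinearMap.ext fun x => Subtype.ext (by simp)

/-- finite cyclic groups embed in the complex units -/
theorem exists_injective_complex (Z : Type*) [Group Z] [Finite Z] [IsCyclic Z] :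
    ∃ ι : Z →* ℂˣ, Function.Injective ι := by
  haveI : NeZero (Nat.card Z) := ⟨Nat.card_pos.ne'⟩
  let e : Z ≃* rootsOfUnity (Nat.card Z) ℂ :=
    mulEquivOfCyclicCardEq (Complex.card_rootsOfUnity (Nat.card Z)).symm
  exact ⟨(Subgroup.subtype _).comp e.toMonoidHom, Subtype.val_injective.comp e.injective⟩

/-- every abelian normal subgroup scalar -/
theorem quasiprimitive_bd [Finite G] [Group.IsSolvable G] [FiniteDimensional k V] [Nontrivial V]
    (ρ : Representation k G V) (hinj : Function.Injective ρ) {n : ℕ}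
    (hn : Module.finrank k V = n)
    (hqp : ∀ A : Subgroup G, A.Normal → (∀ a ∈ A, ∀ b ∈ A, a * b = b * a) → A ≤ scalarSub ρ) :
    Bd (G ⧸ Fit G) (3 ^ (n - 1)) := by
  classical
  have hcen : ∀ a ∈ scalarSub ρ, ∀ c : G, a * c = c * a := by
    rintro a ⟨t, ht⟩ c
    refine hinj (LinearMap.ext fun x => ?_)
    simp only [map_mul, Module.End.mul_apply, ht, map_smul]
  haveI hZn : (scalarSub ρ).Normal := ⟨fun a ha g => by
    rwa [show g * a * g⁻¹ = a by rw [← hcen a ha g, mul_inv_cancel_right]]⟩
  set F := Fit G with hF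
  have hFn : Group.IsNilpotent F := fittingSubgroup_isNilpotent
  have hZF : scalarSub ρ ≤ F := by
    letI : CommGroup (scalarSub ρ) :=
      { (inferInstance : Group (scalarSub ρ)) with
        mul_comm := fun a b => Subtype.ext (hcen a a.2 b) }
    exact le_fittingSubgroup CommGroup.isNilpotent
  -- class two
  have hK : ∀ i, 1 ≤ i → F.lowerCentralSeries i ≤ scalarSub ρ := by
    obtain ⟨N, hN⟩ := (Subgroup.isNilpotent_iff_lowerCentralSeries F).1 hFn
    suffices h : ∀ d i, 1 ≤ i → N ≤ i + d → F.lowerCentralSeries i ≤ scalarSub ρ from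
      fun i hi => h N i hi (Nat.le_add_left N i)
    intro d
    induction d with
    | zero =>
      intro i _ hi
      exact (F.lowerCentralSeries_antitone hi).trans (by rw [hN]; exact bot_le)
    | succ d ihd =>
      intro i hi hid
      have hnext := ihd (i + 1) (by omega) (by omega)
      rw [Subgroup.lowerCentralSeries_succ, Subgroup.commutator_le] at hnext
      refine hqp _ inferInstance fun x hx y hy => ?_
      have hy' : y ∈ ⁅F, F⁆ := by
        have := F.lowerCentralSeries_antitone hi hy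
        rwa [Subgroup.lowerCentralSeries_succ, Subgroup.lowerCentralSeries_zero] at this
      -- `x` centralizes the derived subgroup
      let f : F →* G :=
        { toFun := fun z => ⁅x, (z : G)⁆
          map_one' := by simp
          map_mul' := fun a b => by
            have h1 := hnext x hx b b.2
            have e : ⁅x, (a : G) * b⁆ = ⁅x, (a : G)⁆ * ((a : G) * ⁅x, (b : G)⁆ * (a : G)⁻¹) := by
              simp only [commutatorElement_def]; group
            rw [Subgroup.coe_mul, e, ← hcen _ h1 (a : G), mul_inv_cancel_right] }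
      have hle : ⁅F, F⁆ ≤ (f.ker).map F.subtype := by
        rw [Subgroup.commutator_le]
        intro a ha b hb
        refine ⟨⁅(⟨a, ha⟩ : F), (⟨b, hb⟩ : F)⁆, ?_, by simp [commutatorElement_def]⟩
        show f _ = 1
        rw [map_commutatorElement, commutatorElement_eq_one_iff_mul_comm]
        exact hcen _ (hnext x hx a ha) _
      obtain ⟨z, hz, rfl⟩ := hle hy'
      exact commutatorElement_eq_one_iff_mul_comm.1 hz
  have hcomm : ∀ x ∈ F, ∀ y ∈ F, ⁅x, y⁆ ∈ scalarSub ρ := fun x hx y hy => hK 1 le_rfl (by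
    rw [Subgroup.lowerCentralSeries_succ, Subgroup.lowerCentralSeries_zero]
    exact Subgroup.commutator_mem_commutator hx hy)
  have hleft : ∀ x ∈ F, ∀ x' ∈ F, ∀ y ∈ F, ⁅x * x', y⁆ = ⁅x, y⁆ * ⁅x', y⁆ := by
    intro x _ x' hx' y hy
    have e : ⁅x * x', y⁆ = x * ⁅x', y⁆ * x⁻¹ * ⁅x, y⁆ := by
      simp only [commutatorElement_def]; group
    rw [e, ← hcen _ (hcomm x' hx' y hy) x, mul_inv_cancel_right,
      hcen _ (hcomm x' hx' y hy) _]
  have hpowl : ∀ x ∈ F, ∀ y ∈ F, ∀ j : ℕ, ⁅x ^ j, y⁆ = ⁅x, y⁆ ^ j := by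
    intro x hx y hy j
    induction j with
    | zero => simp
    | succ j ihj => rw [pow_succ, hleft _ (pow_mem hx j) _ hx _ hy, ihj, ← pow_succ]
  have hpowr : ∀ x ∈ F, ∀ y ∈ F, ∀ j : ℕ, ⁅x, y ^ j⁆ = ⁅x, y⁆ ^ j := by
    intro x hx y hy j
    rw [← commutatorElement_inv, hpowl y hy x hx, ← inv_pow, commutatorElement_inv]
  -- square free exponent
  have hsqf : ∀ r : ℕ, r.Prime → ∀ x ∈ F, x ^ (r * r) ∈ scalarSub ρ → x ^ r ∈ scalarSub ρ := by
    intro r _ x hx hxr
    set D := Subgroup.closure {y : G | ∃ z ∈ F, z ^ (r * r) ∈ scalarSub ρ ∧ y = z ^ r} with hD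
    have hDn : D.Normal := ⟨fun a ha g => by
      have : (MulAut.conj g).toMonoidHom a ∈ D.map (MulAut.conj g).toMonoidHom :=
        Subgroup.mem_map_of_mem _ ha
      refine (show D.map (MulAut.conj g).toMonoidHom ≤ D from ?_) this
      rw [hD, MonoidHom.map_closure, Subgroup.closure_le]
      rintro _ ⟨_, ⟨z, hz, hzr, rfl⟩, rfl⟩
      refine Subgroup.subset_closure ⟨g * z * g⁻¹,
        (inferInstance : (Fit G).Normal).conj_mem z hz g, ?_, ?_⟩
      · rw [conj_pow]
        exact hZn.conj_mem _ hzr g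
      · simp [conj_pow]⟩
    have hDc : IsMulCommutative D := by
      rw [hD]
      refine Subgroup.isMulCommutative_closure ?_
      rintro _ ⟨z, hz, hzr, rfl⟩ _ ⟨z', hz', -, rfl⟩
      rw [← commutatorElement_eq_one_iff_mul_comm, hpowl z hz _ (pow_mem hz' r),
        hpowr z hz z' hz', ← pow_mul, ← hpowl z hz z' hz', commutatorElement_eq_one_iff_mul_comm]
      exact hcen _ hzr _
    exact hqp D hDn (fun a ha b hb => congrArg Subtype.val (hDc.is_comm.comm ⟨a, ha⟩ ⟨b, hb⟩))
      (Subgroup.subset_closure ⟨x, hx, hxr, rfl⟩)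
  have hc0 : ∀ a : scalarSub ρ, ∃ c : k, ∀ x, ρ (a : G) x = c • x := fun a => a.2
  choose c hc using hc0
  obtain ⟨x₀, hx₀⟩ := exists_ne (0 : V)
  obtain ⟨S, hSF, hSA⟩ : ∃ S : LayerData (ρ : G →* Module.End k V),
      S.F = F ∧ S.A = scalarSub ρ := ⟨
    { A := scalarSub ρ
      normA := hZn
      F := F
      normF := inferInstance
      inj := hinj
      cen := hcen
      ψ :=
        { toFun := c
          map_one' := smul_left_injective k hx₀ (by
            have := (hc 1 x₀).symm
            simpa using this)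
          map_mul' := fun a b => smul_left_injective k hx₀ (by
            have := (hc (a * b) x₀).symm
            rw [Subgroup.coe_mul, map_mul, Module.End.mul_apply, hc b, map_smul, hc a,
              smul_smul] at this
            simpa [mul_comm] using this) }
      scalar := fun a x => hc a x
      le := hZF
      comm := hcomm
      sqf := hsqf
      self := fun g hg => by
        have hgC : g ∈ Subgroup.centralizer (F : Set G) :=
          Subgroup.mem_centralizer_iff.2 fun x hx => (hg x hx).symm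
        have hgF := centralizer_fittingSubgroup_le hgC
        haveI : (Subgroup.centralizer (F : Set G)).Normal := Subgroup.normal_centralizer
        refine hqp (F ⊓ Subgroup.centralizer (F : Set G)) inferInstance ?_ ⟨hgF, hgC⟩
        exact fun a ha b hb => Subgroup.mem_centralizer_iff.1 hb.2 a ha.1 }, rfl, rfl⟩
  haveI := S.isCyclic
  obtain ⟨ι, hι⟩ := exists_injective_complex S.A
  have haniso : Aniso S.pairing S.act.range := by
    intro W hW hiso
    set U := (W.map S.Q.subtype).comap (QuotientGroup.mk' S.A) with hU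
    have hUF : ∀ x ∈ U, x ∈ S.F := by
      rintro x ⟨y, -, hyx⟩
      obtain ⟨m, hm, hmy⟩ := y.2
      change (y : G ⧸ S.A) = QuotientGroup.mk' S.A x at hyx
      rw [← hmy] at hyx
      have := S.F.mul_mem hm (S.le (QuotientGroup.eq.1 hyx))
      rwa [mul_inv_cancel_left] at this
    have hUn : U.Normal := ⟨fun x hx g => by
      obtain ⟨y, hy, hyx⟩ := hx
      refine ⟨S.act g y, hW _ ⟨g, rfl⟩ y hy, ?_⟩
      change (y : G ⧸ S.A) = QuotientGroup.mk' S.A x at hyx
      show ((S.act g y : S.Q) : G ⧸ S.A) = _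
      rw [S.act_val, hyx]
      simp⟩
    have hUle : U ≤ S.A := by
      rw [hSA]
      refine hqp U hUn fun a ha b hb => ?_
      obtain ⟨y, hy, hya⟩ := id ha
      obtain ⟨y', hy', hyb⟩ := id hb
      have h := S.pair_eq (hUF a ha) (hUF b hb) hya.symm hyb.symm
      rw [show S.pair y y' = 1 from hiso y hy y' hy', OneMemClass.coe_one] at h
      exact commutatorElement_eq_one_iff_mul_comm.1 h.symm
    refine (Subgroup.eq_bot_iff_forall _).2 fun y hy => ?_
    obtain ⟨m, hm, hmy⟩ := y.2
    refine Subtype.ext ?_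
    rw [OneMemClass.coe_one, ← hmy, QuotientGroup.mk'_apply, QuotientGroup.eq_one_iff]
    exact hUle ⟨y, hy, hmy.symm⟩
  obtain ⟨e, hQe, hbd⟩ := symp_bd (Nat.card S.Q) S.Q S.A ι hι S.pairing S.act.range rfl
    S.sqFreeExp S.preserves S.range_solvable haniso
  -- `e` is at most the dimension
  have hQle : Nat.card S.Q ≤ n * n := by
    rw [← hn]
    have hsep : ∀ y y' : S.Q, y ≠ y' → ∃ t : S.Q,
        S.ψ (S.pair t y) ≠ S.ψ (S.pair t y') := by
      intro y y' hne
      by_contra h
      push Not at h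
      refine hne ?_
      have hz := S.pairing.nondeg (y⁻¹ * y') fun t => by
        have e := S.psi_injective (h t)
        show S.pairing.form (y⁻¹ * y') t = 1
        rw [S.pairing.skew t, map_mul, map_inv]
        show ((S.pair t y)⁻¹ * S.pair t y')⁻¹ = 1
        rw [e, inv_mul_cancel, inv_one]
      exact inv_mul_eq_one.1 hz
    refine (Perm.TransLinear.endo_bound (fun y : S.Q => ρ (y : G ⧸ S.A).out)
      (fun t : S.Q => ρ (t : G ⧸ S.A).out) (fun t => ?_) (fun y h0 => ?_)
      (fun t y => S.ψ (S.pair t y)) (fun t y x => ?_) hsep).1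
    · exact ⟨⟨ρ (t : G ⧸ S.A).out, ρ (t : G ⧸ S.A).out⁻¹,
        by rw [← map_mul, mul_inv_cancel, map_one],
        by rw [← map_mul, inv_mul_cancel, map_one]⟩, rfl⟩
    · refine hx₀ ?_
      rw [← rho_inv_apply ρ (y : G ⧸ S.A).out x₀, show ρ (y : G ⧸ S.A).out = 0 from h0]
      simp
    · rw [← S.scalar, ← Module.End.mul_apply, ← map_mul, ← Module.End.mul_apply,
        ← Module.End.mul_apply, ← map_mul, ← map_mul]
      congr 2
      rw [show (S.pair t y : G) = ⁅(t : G ⧸ S.A).out, (y : G ⧸ S.A).out⁆ from rfl]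
      simp only [commutatorElement_def]
      group
  have hen : e ≤ n := by nlinarith
  have hker : S.act.ker = Fit G := S.ker_act.trans hSF
  refine (Bd.of_injective ((QuotientGroup.quotientKerEquivRange S.act).toMonoidHom.comp
    (QuotientGroup.quotientMulEquivOfEq hker.symm).toMonoidHom)
    ((QuotientGroup.quotientKerEquivRange S.act).injective.comp
      (QuotientGroup.quotientMulEquivOfEq hker.symm).injective) hbd).mono ?_
  exact Nat.pow_le_pow_right (by norm_num) (Nat.sub_le_sub_right hen 1)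

end Field

section Complex

variable {V : Type w} [AddCommGroup V] [Module ℂ V]

/-- imprimitive complex groups -/
theorem imprimitive_bd [Finite G] [Group.IsSolvable G] [FiniteDimensional ℂ V] [Nontrivial V]
    (ρ : Representation ℂ G V) (hinj : Function.Injective ρ) {n : ℕ}
    (hn : Module.finrank ℂ V = n) (ih : ∀ m < n, MainAt.{u, w} m) (hirr : Irr ρ) (A : Subgroup G)
    [hA : A.Normal] (hAc : ∀ a ∈ A, ∀ b ∈ A, a * b = b * a) (hAns : ¬ A ≤ scalarSub ρ) :
    Bd (G ⧸ Fit G) (3 ^ (n - 1)) := by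
  obtain ⟨E, _, π, U, hinv, hne, hsum, hpos, hlt, hjoint⟩ := imprimitive_data ρ hn hirr A hAc hAns
  let σ : (i : E) → Representation ℂ π.ker (U i) := fun i =>
    resHom (ρ.comp π.ker.subtype) (U i) fun b x hx => hinv i b x hx
  refine imprimitive_combine π (fun i => QuotientGroup.mk' (σ i).ker)
    (fun i => QuotientGroup.mk'_surjective _) (fun b hb => ?_) _ hpos
    (fun i => image_bd (σ i) ih (hlt i)) hsum
  refine Subtype.ext (hinj ?_)
  rw [OneMemClass.coe_one, map_one]
  refine hjoint _ fun i x hx => ?_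
  have := (QuotientGroup.eq_one_iff b).1 (hb i)
  exact congrArg Subtype.val (LinearMap.congr_fun this ⟨x, hx⟩)

end Complex


theorem mainAt : ∀ n, 1 ≤ n → MainAt.{u, w} n := by
  intro n
  induction n using Nat.strong_induction_on with
  | h n ih => ?_
  intro hn1 G _ _ V _ _ _ ρ hsol hinj hn
  haveI := hsol
  haveI : Nontrivial V := Module.nontrivial_of_finrank_pos (R := ℂ) (by omega)
  have ih' : ∀ m < n, MainAt.{u, w} m := by
    intro m hm
    rcases Nat.eq_zero_or_pos m with rfl | h
    · intro G' _ _ V' _ _ _ σ _ hσ hdim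
      haveI : Subsingleton V' := Module.finrank_zero_iff.1 hdim
      haveI : Subsingleton G' := ⟨fun a b => hσ (LinearMap.ext fun x => Subsingleton.elim _ _)⟩
      refine Bd.of_card ?_
      exact (Finite.card_le_one_iff_subsingleton.2 inferInstance).trans (Nat.one_le_pow _ _ (by norm_num))
    · exact ih m hm h
  by_cases hirr : Irr ρ
  · by_cases hqp : ∀ A : Subgroup G, A.Normal → (∀ a ∈ A, ∀ b ∈ A, a * b = b * a) → A ≤ scalarSub ρ
    · exact quasiprimitive_bd ρ hinj hn hqp
    · push Not at hqp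
      obtain ⟨A, hA, hAc, hAns⟩ := hqp
      haveI := hA
      exact imprimitive_bd ρ hinj hn ih' hirr A hAc hAns
  · simp only [Irr, not_forall, not_or] at hirr
    obtain ⟨W, hW, h0, h1⟩ := hirr
    exact reducible_bd ρ hinj hn ih' W hW h0 h1

end Cfsg.Agent.LinClasses
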