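import Cfsg.Agent.LinClasses.Tables

/-!
# Classes of solvable groups of symplectic automorphisms without invariant isotropic subgroups
-/

set_option autoImplicit false

namespace Cfsg.Agent.LinClasses

open ClassNumber Subgroup

universe u v

variable {Q : Type u} {Z : Type v} [CommGroup Q] [CommGroup Z]

/-- the restriction to an invariant subgroup -/
def restr (Y : Subgroup (MulAut Q)) (W : Subgroup Q) (hW : ∀ φ ∈ Y, ∀ x ∈ W, φ x ∈ W) :
    Y →* MulAut W where
  toFun φ :=
    { toFun := fun x => ⟨(φ : MulAut Q) x, hW _ φ.2 x x.2⟩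
      invFun := fun x => ⟨(φ : MulAut Q).symm x, hW _ (Y.inv_mem φ.2) x x.2⟩
      left_inv := fun x => Subtype.ext ((φ : MulAut Q).symm_apply_apply x)
      right_inv := fun x => Subtype.ext ((φ : MulAut Q).apply_symm_apply x)
      map_mul' := fun x y => Subtype.ext (map_mul (φ : MulAut Q) (x : Q) (y : Q)) }
  map_one' := rfl
  map_mul' _ _ := rfl

theorem restr_apply (Y : Subgroup (MulAut Q)) (W : Subgroup Q) (hW : ∀ φ ∈ Y, ∀ x ∈ W, φ x ∈ W)
    (φ : Y) (x : W) : ((restr Y W hW φ x : W) : Q) = (φ : MulAut Q) x := rfl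

/-- no invariant totally isotropic subgroup -/
def Aniso (β : Pairing Q Z) (Y : Subgroup (MulAut Q)) : Prop :=
  ∀ W : Subgroup Q, (∀ φ ∈ Y, ∀ x ∈ W, φ x ∈ W) →
    (∀ x ∈ W, ∀ y ∈ W, β.form x y = 1) → W = ⊥

/-- the orthogonal subgroup -/
def perp (β : Pairing Q Z) (W : Subgroup Q) : Subgroup Q :=
  ((MonoidHom.compHom' W.subtype).comp β.form).ker

theorem mem_perp {β : Pairing Q Z} {W : Subgroup Q} {x : Q} :
    x ∈ perp β W ↔ ∀ w ∈ W, β.form x w = 1 := by
  rw [perp, MonoidHom.mem_ker]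
  exact ⟨fun h w hw => DFunLike.congr_fun h ⟨w, hw⟩, fun h => MonoidHom.ext fun w => h w w.2⟩

theorem perp_invariant {β : Pairing Q Z} {Y : Subgroup (MulAut Q)} (hY : β.Preserves Y)
    {W : Subgroup Q} (hW : ∀ φ ∈ Y, ∀ x ∈ W, φ x ∈ W) :
    ∀ φ ∈ Y, ∀ x ∈ perp β W, φ x ∈ perp β W := by
  intro φ hφ x hx
  refine mem_perp.2 fun w hw => ?_
  have h1 : φ (φ.symm w) = w := φ.apply_symm_apply w
  rw [← h1, hY φ hφ]
  exact mem_perp.1 hx _ (hW _ (Y.inv_mem hφ) w hw)

theorem card_perp [Finite Q] [Finite Z] (ι : Z →* ℂˣ) (hι : Function.Injective ι)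
    (β : Pairing Q Z) (W : Subgroup Q) : Nat.card Q ≤ Nat.card W * Nat.card (perp β W) := by
  haveI : Finite (W →* Z) := DFunLike.finite _
  haveI : NeZero (Monoid.exponent W) := ⟨Monoid.exponent_ne_zero_of_finite⟩
  have h2 : Nat.card (W →* ℂˣ) = Nat.card W :=
    CommGroup.card_monoidHom_of_hasEnoughRootsOfUnity W ℂ
  haveI : Finite (W →* ℂˣ) := Nat.finite_of_card_ne_zero (by rw [h2]; exact Nat.card_pos.ne')
  have h1 : Nat.card (W →* Z) ≤ Nat.card W := by
    rw [← h2]
    refine Nat.card_le_card_of_injective (fun f => ι.comp f) fun f g h => MonoidHom.ext fun x => ?_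
    exact hι (DFunLike.congr_fun h x)
  rw [← (perp β W).card_mul_index, mul_comm]
  refine Nat.mul_le_mul_right _ ?_
  rw [perp, Subgroup.index_ker]
  exact (Subgroup.card_le_card_group _).trans h1

/-- the pairing on a nondegenerate subgroup -/
def Pairing.onSub (β : Pairing Q Z) (W : Subgroup Q)
    (hW : ∀ x ∈ W, (∀ w ∈ W, β.form x w = 1) → x = 1) : Pairing W Z where
  form := (MonoidHom.compHom' W.subtype).comp (β.form.comp W.subtype)
  alt := fun x => β.alt x
  nondeg := fun x hx => Subtype.ext (hW x x.2 fun w hw => hx ⟨w, hw⟩)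

theorem onSub_form (β : Pairing Q Z) (W : Subgroup Q)
    (hW : ∀ x ∈ W, (∀ w ∈ W, β.form x w = 1) → x = 1) (x y : W) :
    (Pairing.onSub β W hW).form x y = β.form x y := rfl

theorem onSub_facts {β : Pairing Q Z} {Y : Subgroup (MulAut Q)} (hY : β.Preserves Y)
    (han : Aniso β Y) {W : Subgroup Q} (hW : ∀ φ ∈ Y, ∀ x ∈ W, φ x ∈ W)
    (hnd : ∀ x ∈ W, (∀ w ∈ W, β.form x w = 1) → x = 1) :
    (Pairing.onSub β W hnd).Preserves (restr Y W hW).range ∧
      Aniso (Pairing.onSub β W hnd) (restr Y W hW).range := by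
  refine ⟨?_, ?_⟩
  · rintro _ ⟨φ, rfl⟩ x y
    rw [onSub_form, onSub_form, restr_apply, restr_apply]
    exact hY _ φ.2 _ _
  · intro U hU hiso
    have := han (U.map W.subtype) ?_ ?_
    · exact (Subgroup.map_eq_bot_iff_of_injective U W.subtype_injective).1 this
    · rintro φ hφ _ ⟨x, hx, rfl⟩
      exact ⟨_, hU _ ⟨⟨φ, hφ⟩, rfl⟩ x hx, rfl⟩
    · rintro _ ⟨x, hx, rfl⟩ _ ⟨y, hy, rfl⟩
      exact hiso x hx y hy

section Two

variable {r : ℕ}

/-- two independent elements generate a group of order `r ^ 2` -/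
theorem gen_pair [Finite Q] (hr : r.Prime) (hQ : Nat.card Q = r ^ 2) (hexp : ∀ x : Q, x ^ r = 1)
    {u w : Q} (hu : u ≠ 1) (hw : w ∉ zpowers u) : zpowers u ⊔ zpowers w = ⊤ := by
  haveI := Fact.mk hr
  have hur : Nat.card (zpowers u) = r := by
    rw [Nat.card_zpowers, orderOf_eq_prime (hexp u) hu]
  have hlt : zpowers u < zpowers u ⊔ zpowers w := by
    refine lt_of_le_of_ne le_sup_left fun h => hw ?_
    rw [h]
    exact (le_sup_right : zpowers w ≤ _) (mem_zpowers w)
  have h1 : r < Nat.card (zpowers u ⊔ zpowers w : Subgroup Q) := by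
    refine lt_of_le_of_ne (by rw [← hur]; exact Subgroup.card_le_of_le hlt.le) fun h => hlt.ne ?_
    exact Subgroup.eq_of_le_of_card_ge hlt.le (by rw [hur, ← h])
  refine Subgroup.eq_top_of_card_eq _ ?_
  have hd := Subgroup.card_subgroup_dvd_card (zpowers u ⊔ zpowers w)
  rw [hQ] at hd ⊢
  obtain ⟨j, hj, hc⟩ := (Nat.dvd_prime_pow hr).1 hd
  rw [hc] at h1 ⊢
  interval_cases j
  · simp at h1; exact absurd h1 (by have := hr.one_lt; omega)
  · simp at h1
  · rfl

theorem ext_pair [Finite Q] {u w : Q} (hgen : zpowers u ⊔ zpowers w = ⊤) {g h : MulAut Q}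
    (h1 : g u = h u) (h2 : g w = h w) : g = h := by
  refine MulEquiv.ext fun x => ?_
  have hle : zpowers u ⊔ zpowers w ≤ g.toMonoidHom.eqLocus h.toMonoidHom :=
    sup_le (zpowers_le.2 h1) (zpowers_le.2 h2)
  rw [hgen] at hle
  exact hle (mem_top x)

/-- two hyperbolic dimensions -/
theorem bd_two [Finite Q] (hr : r.Prime) (hQ : Nat.card Q = r ^ 2) (hexp : ∀ x : Q, x ^ r = 1)
    (β : Pairing Q Z) (Y : Subgroup (MulAut Q)) (hY : β.Preserves Y) :
    Bd Y (if r = 2 then 3 else r ^ 2) := by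
  classical
  haveI := Fact.mk hr
  haveI : Finite (MulAut Q) :=
    Finite.of_injective (fun φ : MulAut Q => (φ : Q → Q)) DFunLike.coe_injective
  haveI : Nontrivial Q := Finite.one_lt_card_iff_nontrivial.1
    (by rw [hQ]; exact Nat.one_lt_pow two_ne_zero hr.one_lt)
  intro X
  obtain ⟨u, hu⟩ := exists_ne (1 : Q)
  obtain ⟨v, hv⟩ : ∃ v, β.form u v ≠ 1 := by
    by_contra h
    push Not at h
    exact hu (β.nondeg u h)
  have hvu : v ∉ zpowers u := by
    intro h
    obtain ⟨i, hi⟩ := mem_zpowers_iff.1 h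
    rw [← hi, map_zpow, β.alt, one_zpow] at hv
    exact hv rfl
  have hv1 : v ≠ 1 := fun h => hv (by rw [h, map_one])
  have hgen := gen_pair hr hQ hexp hu hvu
  let S : Set X := {g | ∀ x : Q, ((g : Y) : MulAut Q) x ∈ zpowers x}
  -- a scalar is `1` or inverts
  have hS : ∀ g ∈ S, (((g : Y) : MulAut Q) u = u ∧ ((g : Y) : MulAut Q) v = v) ∨
      (((g : Y) : MulAut Q) u = u⁻¹ ∧ ((g : Y) : MulAut Q) v = v⁻¹) := by
    intro g hg
    set φ := ((g : Y) : MulAut Q) with hφ
    obtain ⟨a, ha⟩ := mem_zpowers_iff.1 (hg u)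
    obtain ⟨b, hb⟩ := mem_zpowers_iff.1 (hg v)
    obtain ⟨c, hc⟩ := mem_zpowers_iff.1 (hg (u * v))
    rw [map_mul, mul_zpow, ← ha, ← hb] at hc
    have hac : u ^ (a - c) = v ^ (c - b) := by
      rw [zpow_sub, zpow_sub, ← div_eq_mul_inv, ← div_eq_mul_inv, div_eq_div_iff_mul_eq_mul,
        mul_comm _ (u ^ c)]
      exact hc.symm
    have hcb : v ^ (c - b) = 1 := by
      by_contra h
      refine hvu ?_
      have h1 : zpowers (v ^ (c - b)) = zpowers v := by
        refine Subgroup.eq_of_le_of_card_ge (zpowers_le.2 ⟨c - b, rfl⟩) ?_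
        rw [Nat.card_zpowers, Nat.card_zpowers, orderOf_eq_prime (hexp v) hv1,
          orderOf_eq_prime (hexp _) h]
      have h2 : v ∈ zpowers (v ^ (c - b)) := h1 ▸ mem_zpowers v
      rw [← hac] at h2
      exact (zpowers_le.2 (zpow_mem (mem_zpowers u) (a - c))) h2
    have hdvd : ∀ (x : Q), x ≠ 1 → ∀ n : ℤ, x ^ n = 1 → (r : ℤ) ∣ n := fun x hx n hn => by
      rw [← orderOf_eq_prime (hexp x) hx]
      exact orderOf_dvd_iff_zpow_eq_one.2 hn
    have hd1 : (r : ℤ) ∣ a - c := hdvd u hu _ (hac.trans hcb)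
    have hd2 : (r : ℤ) ∣ c - b := hdvd v hv1 _ hcb
    have hf : β.form (φ u) (φ v) = β.form u v := hY _ (g : Y).2 u v
    rw [← ha, ← hb, map_zpow, map_zpow, MonoidHom.zpow_apply, ← zpow_mul] at hf
    have ho : orderOf (β.form u v) = r := orderOf_eq_prime (by
      rw [← map_pow, hexp, map_one]) hv
    have hd3 : (r : ℤ) ∣ b * a - 1 := by
      rw [← ho]
      refine orderOf_dvd_iff_zpow_eq_one.2 ?_
      rw [zpow_sub, zpow_one, ← div_eq_mul_inv, div_eq_one]
      rw [mul_comm b a]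
      exact hf
    have hd4 : (r : ℤ) ∣ (a - 1) * (a + 1) := by
      have : (a - 1) * (a + 1) = (b * a - 1) + a * ((a - c) + (c - b)) := by ring
      rw [this]
      exact dvd_add hd3 (Dvd.dvd.mul_left (dvd_add hd1 hd2) _)
    have hpow : ∀ (x : Q) (m n : ℤ), (r : ℤ) ∣ m - n → x ^ m = x ^ n := by
      rintro x m n ⟨t, ht⟩
      rw [show m = n + r * t by omega, zpow_add, zpow_mul, zpow_natCast, hexp, one_zpow, mul_one]
    have hab : (r : ℤ) ∣ a - b := by
      have := dvd_add hd1 hd2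
      rwa [sub_add_sub_cancel] at this
    rcases Int.Prime.dvd_mul' hr hd4 with h | h
    · refine Or.inl ⟨?_, ?_⟩
      · rw [← ha, hpow u a 1 h, zpow_one]
      · rw [← hb, hpow v b 1 ?_, zpow_one]
        have := dvd_sub h hab
        rwa [show a - 1 - (a - b) = b - 1 by ring] at this
    · refine Or.inr ⟨?_, ?_⟩
      · rw [← ha, hpow u a (-1) (by simpa using h), zpow_neg_one]
      · rw [← hb, hpow v b (-1) ?_, zpow_neg_one]
        have := dvd_sub h hab
        rwa [show a + 1 - (a - b) = b - (-1) by ring] at this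
  have hextX : ∀ {x y : Q}, zpowers x ⊔ zpowers y = ⊤ → ∀ g h : X,
      ((g : Y) : MulAut Q) x = ((h : Y) : MulAut Q) x →
      ((g : Y) : MulAut Q) y = ((h : Y) : MulAut Q) y → g = h :=
    fun hxy g h h1 h2 => Subtype.ext (Subtype.ext (ext_pair hxy h1 h2))
  have hScard : S.ncard ≤ if r = 2 then 1 else 2 := by
    by_cases h2 : r = 2
    · rw [if_pos h2]
      refine (Set.ncard_le_one_iff (Set.toFinite S)).2 fun {g h} hg hh => ?_
      subst h2
      have hinv : ∀ x : Q, x⁻¹ = x := fun x =>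
        inv_eq_of_mul_eq_one_left (by rw [← sq, hexp])
      refine hextX hgen g h ?_ ?_
      · rcases hS g hg with ⟨h1, -⟩ | ⟨h1, -⟩ <;> rcases hS h hh with ⟨h3, -⟩ | ⟨h3, -⟩ <;>
          simp [h1, h3, hinv]
      · rcases hS g hg with ⟨-, h1⟩ | ⟨-, h1⟩ <;> rcases hS h hh with ⟨-, h3⟩ | ⟨-, h3⟩ <;>
          simp [h1, h3, hinv]
    · rw [if_neg h2]
      calc S.ncard ≤ ({(u, v), (u⁻¹, v⁻¹)} : Set (Q × Q)).ncard := by
            refine Set.ncard_le_ncard_of_injOn
              (fun g => (((g : Y) : MulAut Q) u, ((g : Y) : MulAut Q) v)) ?_ ?_ (Set.toFinite _)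
            · intro g hg
              rcases hS g hg with ⟨h1, h3⟩ | ⟨h1, h3⟩ <;> simp [h1, h3]
            · intro g _ h _ he
              exact hextX hgen g h (congrArg Prod.fst he) (congrArg Prod.snd he)
        _ ≤ 2 := (Set.ncard_insert_le _ _).trans (by rw [Set.ncard_singleton])
  have hc : ∀ g ∉ S, Nat.card (centralizer ({g} : Set X)) ≤ r ^ 2 - 1 := by
    intro g hg
    simp only [S, Set.mem_ofPred_eq, not_forall] at hg
    obtain ⟨x, hx⟩ := hg
    have hx1 : x ≠ 1 := by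
      rintro rfl
      exact hx (by rw [map_one]; exact one_mem _)
    have hg2 := gen_pair hr hQ hexp hx1 hx
    have hcard : Nat.card {y : Q // y ≠ 1} = r ^ 2 - 1 := by
      haveI := Fintype.ofFinite Q
      rw [Nat.card_eq_fintype_card, Fintype.card_subtype_compl, Fintype.card_subtype_eq,
        ← Nat.card_eq_fintype_card, hQ]
    rw [← hcard]
    refine Nat.card_le_card_of_injective (fun h => (⟨(((h : X) : Y) : MulAut Q) x, fun he => hx1
      ((MulEquiv.map_eq_one_iff _).1 he)⟩ : {y : Q // y ≠ 1})) fun h h' he => ?_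
    have e1 : (((h : X) : Y) : MulAut Q) x = (((h' : X) : Y) : MulAut Q) x := congrArg Subtype.val he
    refine Subtype.ext (hextX hg2 _ _ e1 ?_)
    have c1 : ∀ k : centralizer ({g} : Set X), (((k : X) : Y) : MulAut Q) (((g : Y) : MulAut Q) x) =
        ((g : Y) : MulAut Q) ((((k : X) : Y) : MulAut Q) x) := fun k => by
      have := congrArg (fun z : X => ((z : Y) : MulAut Q) x)
        (mem_centralizer_singleton_iff.1 k.2)
      simpa [MulAut.mul_apply] using this
    rw [c1, c1, e1]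
  have key := card_conjClasses_count S (r ^ 2 - 1) hc
  have hX : 0 < Nat.card X := Nat.card_pos
  have h1S : (1 : X) ∈ S := fun x => by simp
  have hS1 : 1 ≤ S.ncard := (Set.ncard_pos (Set.toFinite _)).2 ⟨1, h1S⟩
  have hr4 : 4 ≤ r ^ 2 := Nat.pow_le_pow_left hr.two_le 2
  have hlt : Nat.card (ConjClasses X) < S.ncard + (r ^ 2 - 1) := by
    refine Nat.lt_of_mul_lt_mul_right (a := Nat.card X) ?_
    rw [add_mul]
    have : 0 < S.ncard * (r ^ 2 - 1) := Nat.mul_pos hS1 (by omega)
    rw [mul_comm (r ^ 2 - 1)]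
    omega
  split_ifs with h2
  · subst h2; rw [if_pos rfl] at hScard; omega
  · rw [if_neg h2] at hScard; omega

end Two

/-- no fixed point free element of order fifteen -/
theorem no_fifteen [Finite Q] (hQ : Nat.card Q = 16) (β : Pairing Q Z)
    (Y : Subgroup (MulAut Q)) (hY : β.Preserves Y) (g : Y) (hg : orderOf g = 15)
    (hfree : ∀ (i : ℕ) (x : Q), x ≠ 1 → ((g ^ i : Y) : MulAut Q) x = x → g ^ i = 1) : False := by
  classical
  haveI : Nontrivial Q := Finite.one_lt_card_iff_nontrivial.1 (by omega)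
  set x : MulAut Q := ((g ^ 5 : Y) : MulAut Q) with hx
  set φ : MulAut Q := (g : MulAut Q) with hφ
  have hxY : x ∈ Y := (g ^ 5).2
  have hcomm : ∀ (i : ℕ) (y : Q), x (((g ^ i : Y) : MulAut Q) y) =
      ((g ^ i : Y) : MulAut Q) (x y) := fun i y => by
    have h := congrArg (fun z : Y => (z : MulAut Q) y) ((Commute.refl g).pow_pow 5 i).eq
    simpa [MulAut.mul_apply, hx] using h
  obtain ⟨u₀, hu₀⟩ := exists_ne (1 : Q)
  have hcard : Nat.card {y : Q // y ≠ 1} = 15 := by
    haveI := Fintype.ofFinite Q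
    rw [Nat.card_eq_fintype_card, Fintype.card_subtype_compl, Fintype.card_subtype_eq,
      ← Nat.card_eq_fintype_card, hQ]
  let orbit : Fin 15 → {y : Q // y ≠ 1} := fun i =>
    ⟨((g ^ (i : ℕ) : Y) : MulAut Q) u₀, fun he => hu₀ ((MulEquiv.map_eq_one_iff _).1 he)⟩
  have horb : Function.Surjective orbit := by
    refine ((Nat.bijective_iff_injective_and_card orbit).2 ⟨?_, by rw [Nat.card_fin, hcard]⟩).2
    intro i j hij
    have he : ((g ^ (i : ℕ) : Y) : MulAut Q) u₀ = ((g ^ (j : ℕ) : Y) : MulAut Q) u₀ :=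
      congrArg Subtype.val hij
    wlog hle : (i : ℕ) ≤ j generalizing i j
    · exact (this hij.symm he.symm (by omega)).symm
    obtain ⟨t, ht⟩ := Nat.exists_eq_add_of_le hle
    rw [ht, pow_add, Subgroup.coe_mul, MulAut.mul_apply] at he
    have h1 := ((g ^ (i : ℕ) : Y) : MulAut Q).injective he
    have h2 := hfree t u₀ hu₀ h1.symm
    have h3 : 15 ∣ t := hg ▸ orderOf_dvd_of_pow_eq_one h2
    exact Fin.ext (by omega)
  let q : Q → Z := fun y => β.form y (x y)
  have hq : ∀ y, y ≠ 1 → q y = q u₀ := by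
    intro y hy
    obtain ⟨i, hi⟩ := horb ⟨y, hy⟩
    have hi' : ((g ^ (i : ℕ) : Y) : MulAut Q) u₀ = y := congrArg Subtype.val hi
    show β.form y (x y) = β.form u₀ (x u₀)
    rw [← hi', hcomm]
    exact hY _ (g ^ (i : ℕ)).2 _ _
  have hmul : ∀ y z, q (y * z) = q y * q z * (β.form y (x z) * β.form z (x y)) := fun y z => by
    simp only [q, map_mul, MonoidHom.mul_apply]
    ac_rfl
  set c := q u₀ with hc
  by_cases hc1 : c = 1
  · have hq1 : ∀ y, q y = 1 := fun y => by
      by_cases hy : y = 1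
      · subst hy; simp [q]
      · rw [hq y hy, hc1]
    have hL : ∀ y z, β.form y (x z) = β.form y (x (x z)) := by
      intro y z
      have h := hmul y z
      rw [hq1, hq1, hq1, one_mul, one_mul] at h
      rw [eq_inv_of_mul_eq_one_left h.symm, β.skew (x y) z, inv_inv]
      have h3 : x (x (x z)) = z := by
        have h15 : (g ^ 5) * (g ^ 5) * (g ^ 5) = 1 := by
          rw [← pow_add, ← pow_add, show 5 + 5 + 5 = orderOf g by rw [hg]]; exact pow_orderOf_eq_one g
        have := congrArg (fun w : Y => (w : MulAut Q) z) h15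
        simpa [MulAut.mul_apply, hx] using this
      conv_lhs => rw [← h3]
      exact hY x hxY _ _
    have hxz : ∀ z, x z = z := by
      intro z
      have h1 : x z = x (x z) := by
        have hnd : (x z)⁻¹ * x (x z) = 1 := β.nondeg _ fun y => by
          rw [β.skew y, map_mul, map_inv, ← hL, inv_mul_cancel, inv_one]
        exact inv_mul_eq_one.1 hnd
      exact (x.injective h1).symm
    have h5 := hfree 5 u₀ hu₀ (hxz u₀)
    have : 15 ∣ 5 := hg ▸ orderOf_dvd_of_pow_eq_one h5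
    norm_num at this
  · have hL : ∀ y z, y ≠ 1 → z ≠ 1 → y * z ≠ 1 → c = c * c * (β.form y (x z) * β.form z (x y)) :=
      fun y z hy hz hyz => by
        conv_lhs => rw [← hq _ hyz, hmul, hq y hy, hq z hz]
    obtain ⟨z₁, hz₁⟩ : ∃ z, z ∉ ({1, u₀⁻¹} : Finset Q) := by
      by_contra h
      push Not at h
      haveI := Fintype.ofFinite Q
      have := Finset.card_le_card (s := (Finset.univ : Finset Q)) fun y _ => h y
      rw [Finset.card_univ, ← Nat.card_eq_fintype_card, hQ] at this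
      exact absurd (this.trans (Finset.card_le_two)) (by norm_num)
    simp only [Finset.mem_insert, Finset.mem_singleton, not_or] at hz₁
    obtain ⟨z₂, hz₂⟩ : ∃ z, z ∉ ({1, u₀⁻¹, z₁⁻¹, z₁⁻¹ * u₀⁻¹} : Finset Q) := by
      by_contra h
      push Not at h
      haveI := Fintype.ofFinite Q
      have := Finset.card_le_card (s := (Finset.univ : Finset Q)) fun y _ => h y
      rw [Finset.card_univ, ← Nat.card_eq_fintype_card, hQ] at this
      exact absurd (this.trans (Finset.card_le_four)) (by norm_num)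
    simp only [Finset.mem_insert, Finset.mem_singleton, not_or] at hz₂
    obtain ⟨hz2a, hz2b, hz2c, hz2d⟩ := hz₂
    have e1 := hL u₀ z₁ hu₀ hz₁.1 fun h => hz₁.2 (eq_inv_of_mul_eq_one_right h)
    have e2 := hL u₀ z₂ hu₀ hz2a fun h => hz2b (eq_inv_of_mul_eq_one_right h)
    have e3 := hL u₀ (z₁ * z₂) hu₀ (fun h => hz2c (eq_inv_of_mul_eq_one_right h)) fun h => hz2d (by
      have h' := eq_inv_of_mul_eq_one_right h
      rw [eq_inv_mul_iff_mul_eq, h'])
    set L₁ := β.form u₀ (x z₁) * β.form z₁ (x u₀)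
    set L₂ := β.form u₀ (x z₂) * β.form z₂ (x u₀)
    have e4 : β.form u₀ (x (z₁ * z₂)) * β.form (z₁ * z₂) (x u₀) = L₁ * L₂ := by
      simp only [map_mul, MonoidHom.mul_apply, L₁, L₂]
      ac_rfl
    rw [e4] at e3
    have h1 : c * L₁ = 1 := mul_left_cancel (a := c) (by rw [← mul_assoc, ← e1, mul_one])
    have h2 : c * L₂ = 1 := mul_left_cancel (a := c) (by rw [← mul_assoc, ← e2, mul_one])
    have h3 : c * (L₁ * L₂) = 1 := mul_left_cancel (a := c) (by rw [← mul_assoc, ← e3, mul_one])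
    rw [← mul_assoc, h1, one_mul] at h3
    rw [h3, mul_one] at h2
    exact hc1 h2

end Cfsg.Agent.LinClasses
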