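import Cfsg.Agent.LinClasses.SympCases

/-!
# Classes of solvable symplectic groups: the general bound
-/

set_option autoImplicit false

namespace Cfsg.Agent.LinClasses

open ClassNumber Subgroup

universe u v

theorem two_pow_le (k : ℕ) (hk : 6 ≤ k) : 2 * (k * (2 * k + 1)) + 3 ≤ 3 * 2 ^ k := by
  induction k, hk using Nat.le_induction with
  | base => norm_num
  | succ n hn ih =>
    rw [pow_succ]
    nlinarith

theorem three_pow_le (r : ℕ) (hr : 3 ≤ r) : r * r ≤ 3 ^ (r - 1) := by
  induction r, hr using Nat.le_induction with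
  | base => norm_num
  | succ n hn ih =>
    rw [show n + 1 - 1 = (n - 1) + 1 by omega, pow_succ]
    nlinarith

theorem geom_le {r k : ℕ} (hr : 3 ≤ r) (hk : 2 ≤ k) (h : ¬ (r = 3 ∧ k = 2)) :
    (r - 1) * (k * (2 * k + 1)) + 2 ≤ 2 * r ^ k := by
  obtain ⟨t, rfl⟩ := Nat.exists_eq_add_of_le hr
  rw [show 3 + t - 1 = 2 + t by omega]
  induction k, hk using Nat.le_induction with
  | base => nlinarith [show 1 ≤ t by omega]
  | succ n hn ih =>
    by_cases hn2 : 3 + t = 3 ∧ n = 2
    · obtain ⟨h1, rfl⟩ := hn2
      obtain rfl : t = 0 := by omega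
      norm_num
    · have := ih hn2
      rw [pow_succ]
      have h1 : (n + 1) * (2 * (n + 1) + 1) ≤ (3 + t) * (n * (2 * n + 1)) := by
        nlinarith [Nat.zero_le (t * (n * (2 * n + 1))), Nat.mul_le_mul_right n hn]
      have h2 := Nat.mul_le_mul_left (2 + t) h1
      have h3 := Nat.mul_le_mul_left (3 + t) this
      nlinarith

theorem arith_large {r k : ℕ} (hr : r.Prime) (hk : 2 ≤ k) (h2 : r = 2 → 6 ≤ k)
    (h3 : ¬ (r = 3 ∧ k = 2)) : r ^ (k * (2 * k + 1)) ≤ 3 ^ (r ^ k - 1) := by
  refine le_of_pow_le_pow_left₀ (n := 2) two_ne_zero (Nat.zero_le _) ?_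
  rw [← pow_mul, ← pow_mul]
  rcases eq_or_lt_of_le hr.two_le with h | h
  · subst h
    have h6 := two_pow_le k (h2 rfl)
    set n := 2 ^ k - 1 with hn
    have hsmall : k * (2 * k + 1) * 2 ≤ 3 * n := by
      have : 1 ≤ 2 ^ k := Nat.one_le_two_pow
      omega
    calc 2 ^ (k * (2 * k + 1) * 2) ≤ 2 ^ (3 * n) := Nat.pow_le_pow_right (by norm_num) hsmall
      _ = 8 ^ n := by rw [pow_mul]; norm_num
      _ ≤ 9 ^ n := Nat.pow_le_pow_left (by norm_num) _
      _ = 3 ^ (n * 2) := by rw [mul_comm, pow_mul]; norm_num
  · have hg := geom_le (r := r) (k := k) h hk h3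
    calc r ^ (k * (2 * k + 1) * 2) = (r * r) ^ (k * (2 * k + 1)) := by
          rw [mul_comm _ 2, pow_mul, sq]
      _ ≤ (3 ^ (r - 1)) ^ (k * (2 * k + 1)) := Nat.pow_le_pow_left (three_pow_le r h) _
      _ ≤ _ := by
        rw [← pow_mul]
        exact Nat.pow_le_pow_right (by norm_num) (by omega)

/-- the general bound -/
theorem symp_bd : ∀ (N : ℕ) (Q : Type u) (Z : Type v) [CommGroup Q] [CommGroup Z] [Finite Q]
    [Finite Z] [IsCyclic Z] (ι : Z →* ℂˣ), Function.Injective ι →
    ∀ (β : Pairing Q Z) (Y : Subgroup (MulAut Q)), Nat.card Q = N → SqFreeExp Q →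
      β.Preserves Y → Group.IsSolvable Y → Aniso β Y →
      ∃ e, N = e ^ 2 ∧ Bd Y (3 ^ (e - 1)) := by
  intro N
  induction N using Nat.strong_induction_on with
  | h N ih => ?_
  intro Q Z _ _ _ _ _ ι hι β Y hQ hsf hY hsol han
  classical
  haveI : Finite (MulAut Q) :=
    Finite.of_injective (fun φ : MulAut Q => (φ : Q → Q)) DFunLike.coe_injective
  obtain ⟨e, hNe, hcard⟩ := sq_bound N Q Z β Y hQ hsf hY
  refine ⟨e, hNe, ?_⟩
  by_cases h1 : N = 1
  · refine (Bd.of_card (b := 1) ?_).mono (Nat.one_le_pow _ _ (by norm_num))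
    obtain rfl : e = 1 := by
      have := hNe.symm.trans h1
      exact (Nat.pow_eq_one.1 this).resolve_right two_ne_zero
    simpa [spB] using hcard
  by_cases hsplit : ∃ W : Subgroup Q, (∀ φ ∈ Y, ∀ x ∈ W, φ x ∈ W) ∧ W ≠ ⊥ ∧ W ≠ ⊤
  · obtain ⟨W, hW, hW0, hW1⟩ := hsplit
    set R := perp β W with hR
    have hR' := perp_invariant hY hW
    have hbot : W ⊓ R = ⊥ :=
      han (W ⊓ R) (fun φ hφ x hx => ⟨hW φ hφ x hx.1, hR' φ hφ x hx.2⟩)
        fun x hx y hy => mem_perp.1 hx.2 y hy.1
    have hdis : Disjoint W R := disjoint_iff.2 hbot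
    have hcardWR : Nat.card Q = Nat.card W * Nat.card R := by
      refine le_antisymm (card_perp ι hι β W) ?_
      rw [← Nat.card_prod]
      exact Nat.card_le_card_of_injective _ (Subgroup.mul_injective_of_disjoint hdis)
    have hsurj : Function.Surjective fun g : W × R => (g.1 : Q) * g.2 :=
      ((Nat.bijective_iff_injective_and_card _).2 ⟨Subgroup.mul_injective_of_disjoint hdis,
        by rw [Nat.card_prod, hcardWR]⟩).2
    have hndW : ∀ x ∈ W, (∀ w ∈ W, β.form x w = 1) → x = 1 := fun x hx h =>
      (Subgroup.mem_bot).1 (hbot ▸ (⟨hx, mem_perp.2 h⟩ : x ∈ W ⊓ R))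
    have hndR : ∀ x ∈ R, (∀ w ∈ R, β.form x w = 1) → x = 1 := fun x hx h =>
      β.nondeg x fun y => by
        obtain ⟨⟨w, z⟩, rfl⟩ := hsurj y
        rw [map_mul, mem_perp.1 hx w w.2, h z z.2, one_mul]
    have hlW : Nat.card W < N := by
      rw [← hQ]
      exact lt_of_le_of_ne (Subgroup.card_le_card_group W)
        fun h => hW1 (Subgroup.eq_top_of_card_eq W h)
    have hlR : Nat.card R < N := by
      rw [← hQ, hcardWR]
      refine lt_mul_left Nat.card_pos ?_
      exact W.one_lt_card_iff_ne_bot.2 hW0
    obtain ⟨hpW, haW⟩ := onSub_facts hY han hW hndW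
    obtain ⟨hpR, haR⟩ := onSub_facts hY han hR' hndR
    haveI := hsol
    obtain ⟨e₁, he₁, hb₁⟩ := ih _ hlW W Z ι hι _ _ rfl (hsf.subgroup W) hpW
      (solvable_of_surjective (restr Y W hW).rangeRestrict_surjective) haW
    obtain ⟨e₂, he₂, hb₂⟩ := ih _ hlR R Z ι hι _ _ rfl (hsf.subgroup R) hpR
      (solvable_of_surjective (restr Y R hR').rangeRestrict_surjective) haR
    refine (Bd.two (restr Y W hW).rangeRestrict (restr Y R hR').rangeRestrict ?_ hb₁ hb₂).mono ?_
    · intro φ h h'
      refine Subtype.ext (MulEquiv.ext fun y => ?_)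
      obtain ⟨⟨w, z⟩, rfl⟩ := hsurj y
      have hw : (φ : MulAut Q) w = w := congrArg Subtype.val
        (DFunLike.congr_fun (congrArg Subtype.val h) w)
      have hz : (φ : MulAut Q) z = z := congrArg Subtype.val
        (DFunLike.congr_fun (congrArg Subtype.val h') z)
      simp [hw, hz]
    · have he : e = e₁ * e₂ := by
        refine Nat.pow_left_injective two_ne_zero ?_
        simp only [mul_pow, ← hNe, ← he₁, ← he₂, ← hQ, hcardWR]
      have h1' : 1 ≤ e₁ := Nat.pos_of_ne_zero (by rintro rfl; exact Nat.card_pos.ne' he₁)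
      have h2' : 1 ≤ e₂ := Nat.pos_of_ne_zero (by rintro rfl; exact Nat.card_pos.ne' he₂)
      rw [← pow_add, he]
      refine Nat.pow_le_pow_right (by norm_num) ?_
      obtain ⟨a, rfl⟩ := Nat.exists_eq_add_of_le h1'
      obtain ⟨b, rfl⟩ := Nat.exists_eq_add_of_le h2'
      rw [show (1 + a) * (1 + b) = 1 + a + b + a * b by ring]
      omega
  · push Not at hsplit
    have hirr : ∀ W : Subgroup Q, (∀ φ ∈ Y, ∀ x ∈ W, φ x ∈ W) → W = ⊥ ∨ W = ⊤ := fun W hW => by
      by_cases hW0 : W = ⊥
      · exact Or.inl hW0
      · exact Or.inr (hsplit W hW hW0)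
    obtain ⟨r, hr, hrN⟩ := Nat.exists_prime_and_dvd h1
    haveI := Fact.mk hr
    have hexp : ∀ x : Q, x ^ r = 1 := by
      rcases hirr (torsion Q r) (fun φ _ x hx => mem_torsion.2 (by
          rw [← map_pow, mem_torsion.1 hx, map_one])) with h | h
      · exfalso
        obtain ⟨x, hx⟩ := exists_prime_orderOf_dvd_card' r (hQ ▸ hrN : r ∣ Nat.card Q)
        have : x ∈ torsion Q r := mem_torsion.2 (hx ▸ pow_orderOf_eq_one x)
        rw [h, Subgroup.mem_bot] at this
        rw [this, orderOf_one] at hx
        exact hr.ne_one hx.symm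
      · exact fun x => mem_torsion.1 (h ▸ Subgroup.mem_top x)
    have hp : IsPGroup r Q := fun x => ⟨1, by rw [pow_one, hexp]⟩
    obtain ⟨n, hn⟩ := IsPGroup.iff_card.1 hp
    obtain ⟨k, hk, hek⟩ : ∃ k, k ≤ n ∧ e = r ^ k := by
      have : e ∣ r ^ n := ⟨e, by rw [← hn, hQ, hNe, sq]⟩
      obtain ⟨k, hk, h⟩ := (Nat.dvd_prime_pow hr).1 this
      exact ⟨k, hk, h⟩
    subst hek
    have hn2 : n = k * 2 := by
      rw [hn, hNe, ← pow_mul] at hQ
      exact Nat.pow_right_injective hr.two_le hQ
    have hk0 : k ≠ 0 := by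
      rintro rfl
      simp at hNe
      exact h1 hNe
    have hspB : spB (r ^ k) = r ^ (k * (2 * k + 1)) := by
      rw [spB, Nat.Prime.factorization_pow hr, Finsupp.prod_single_index]
      simp
    rw [hspB] at hcard
    by_cases hk1 : k = 1
    · subst hk1
      refine (bd_two hr (by rw [hn, hn2]) hexp β Y hY).mono ?_
      rw [pow_one]
      split_ifs with h2
      · subst h2; norm_num
      · rw [sq]
        exact three_pow_le r (by have := hr.two_le; omega)
    by_cases hbig : (r = 2 → 6 ≤ k) ∧ ¬ (r = 3 ∧ k = 2)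
    · exact Bd.of_card (hcard.trans (arith_large hr (by omega) hbig.1 hbig.2))
    -- the module
    haveI : Module (ZMod r) (Additive Q) :=
      AddCommGroup.zmodModule (G := Additive Q) (n := r) fun x => by
        apply Additive.toMul.injective; simpa using hexp x.toMul
    haveI : Finite (Additive Q) := Finite.of_equiv Q Additive.ofMul
    let lin : Y → Module.End (ZMod r) (Additive Q) := fun φ =>
      (MulEquiv.toAdditive (φ : MulAut Q)).toAddMonoidHom.toZModLinearMap r
    have hlin : ∀ (φ : Y) (x : Q),
        lin φ (Additive.ofMul x) = Additive.ofMul ((φ : MulAut Q) x) := fun φ x => rfl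
    let ρ : Representation (ZMod r) Y (Additive Q) :=
      { toFun := lin
        map_one' := LinearMap.ext fun x => (hlin 1 x.toMul).trans (by simp)
        map_mul' := fun a b => LinearMap.ext fun x => by
          rw [Module.End.mul_apply, ← ofMul_toMul x, hlin, hlin, hlin]
          rfl }
    have hρ : ∀ (φ : Y) (x : Additive Q), ρ φ x = Additive.ofMul ((φ : MulAut Q) x.toMul) :=
      fun φ x => rfl
    have hinj : Function.Injective ρ := fun a b hab => Subtype.ext (MulEquiv.ext fun x => by
      have := congrArg Additive.toMul (LinearMap.congr_fun hab (Additive.ofMul x))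
      exact this)
    have hirrρ : Irr ρ := by
      intro U hU
      rcases hirr (AddSubgroup.toSubgroup' U.toAddSubgroup)
          (fun φ hφ x hx => hU ⟨φ, hφ⟩ (Additive.ofMul x) hx) with h | h
      · refine Or.inl ((Submodule.eq_bot_iff U).2 fun x hx => ?_)
        have : x.toMul ∈ AddSubgroup.toSubgroup' U.toAddSubgroup := hx
        rw [h, Subgroup.mem_bot] at this
        exact congrArg Additive.ofMul this
      · refine Or.inr (eq_top_iff.2 fun x _ => ?_)
        have : x.toMul ∈ AddSubgroup.toSubgroup' U.toAddSubgroup := h ▸ Subgroup.mem_top _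
        exact this
    haveI : Module.Finite (ZMod r) (Additive Q) := Module.Finite.of_finite
    have hdim : Module.finrank (ZMod r) (Additive Q) = k * 2 := by
      have h := Module.natCard_eq_pow_finrank (K := ZMod r) (V := Additive Q)
      rw [Nat.card_congr Additive.toMul, hn, hn2, Nat.card_zmod] at h
      exact (Nat.pow_right_injective hr.two_le h).symm
    rcases not_and_or.1 hbig with h | h
    · obtain ⟨rfl, hk6⟩ := Classical.not_imp.1 h
      obtain rfl | rfl | rfl | rfl : k = 2 ∨ k = 3 ∨ k = 4 ∨ k = 5 := by omega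
      · -- four dimensions over two elements
        by_cases hpr : Prim ρ
        · haveI : Nontrivial (Additive Q) :=
            Module.nontrivial_of_finrank_pos (R := ZMod 2) (by omega)
          obtain ⟨a, D, z, e, y, -, had, he, heD, hz, hse, hy, -, -, -, hL, g, hg, hfree⟩ :=
            prim_data hsol ρ hinj hpr
          refine Bd.of_card (hL.trans ?_)
          obtain ⟨ha', rfl⟩ := split_dims (had.trans hdim) (by norm_num)
          rw [show Nat.divisors (2 * 2) = {1, 2, 4} from by decide] at ha'
          simp only [Finset.mem_insert, Finset.mem_singleton] at ha'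
          rcases ha' with rfl | rfl | rfl
          · have h2 := e_odd hse hz (by norm_num)
            have h3 := e_not_three hse hz (by norm_num)
            norm_num at heD
            exact bound_one (by norm_num) hz (by interval_cases e <;> first | rfl | omega) hy
              (by norm_num)
          · have h2 := e_odd hse hz (by norm_num)
            norm_num at heD
            exact bound_one (by norm_num) hz (by interval_cases e <;> first | rfl | omega) hy
              (by norm_num)
          · norm_num at heD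
            obtain rfl : e = 1 := by omega
            have hz5 : z ≤ 5 := by
              have hzd : z ∈ Nat.divisors 15 := Nat.mem_divisors.2 ⟨hz, by norm_num⟩
              rw [show Nat.divisors 15 = {1, 3, 5, 15} from by decide] at hzd
              simp only [Finset.mem_insert, Finset.mem_singleton] at hzd
              rcases hzd with rfl | rfl | rfl | rfl
              all_goals first
                | omega
                | exact (no_fifteen (by rw [hn, hn2]; norm_num) β Y hY g hg fun i x hx h =>
                    hfree i (Additive.ofMul x) (fun h0 => hx (congrArg Additive.toMul h0))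
                      (congrArg Additive.ofMul h)).elim
            calc 4 * (z * (1 ^ 2 * y)) ≤ 4 * (5 * (1 ^ 2 * 1)) :=
                  Nat.mul_le_mul_left _ (Nat.mul_le_mul hz5 (Nat.mul_le_mul_left _ (y_one hy)))
              _ ≤ _ := by norm_num
        · simp only [Prim, hirrρ, true_and, not_forall, not_le] at hpr
          obtain ⟨E, hE, hc⟩ := hpr
          obtain ⟨W, L, hL, hW, hLi, hfr, hbd⟩ := system_case hsol ρ hirrρ hinj hE hc
          obtain ⟨hm', hw⟩ := block_dims hc (hfr.trans hdim) (by norm_num)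
          rw [show Nat.divisors (2 * 2) = {1, 2, 4} from by decide] at hm'
          simp only [Finset.mem_insert, Finset.mem_singleton] at hm'
          haveI : Finite (Module.End (ZMod 2) W) := DFunLike.finite _
          rcases hm' with h' | h' | h'
          · omega
          · refine (hbd 3 (tb22 L W (unitsRep L) hL hLi (fun x y h => Subtype.ext (Units.ext h))
              (by rw [hw, h']))).mono ?_
            rw [h']; norm_num
          · refine (hbd 1 ?_).mono (by rw [h']; norm_num)
            have := tb_one 2 L W (unitsRep L) hL hLi (fun x y h => Subtype.ext (Units.ext h))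
              (by rw [hw, h'])
            simpa using this
      · exact (tb26 Y (Additive Q) ρ hsol hirrρ hinj hdim).mono (by norm_num)
      · exact tb28 Y (Additive Q) ρ hsol hirrρ hinj hdim
      · exact tb210 Y (Additive Q) ρ hsol hirrρ hinj hdim
    · obtain ⟨rfl, rfl⟩ := Classical.not_not.1 h
      exact tb34 Y (Additive Q) ρ hsol hirrρ hinj hdim

end Cfsg.Agent.LinClasses
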