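import Cfsg.Agent.LinClasses.IrrBound

/-!
# The small cases
-/

set_option autoImplicit false

namespace Cfsg.Agent.LinClasses

open ClassNumber

universe u

/-- every solvable irreducible group in dimension `d` over `r` elements is bounded by `T` -/
def TB (r d T : ℕ) [Fact r.Prime] : Prop :=
  ∀ (H : Type u) [Group H] [Finite H] (V : Type u) [AddCommGroup V] [Module (ZMod r) V] [Finite V]
    (ρ : Representation (ZMod r) H V), Group.IsSolvable H → Irr ρ → Function.Injective ρ →
      Module.finrank (ZMod r) V = d → Bd H T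

theorem TB.mono {r d T T' : ℕ} [Fact r.Prime] (h : TB.{u} r d T) (hT : T ≤ T') : TB.{u} r d T' :=
  fun H _ _ V _ _ _ ρ hs hi hin hd => (h H V ρ hs hi hin hd).mono hT

/-- one step of the recursion -/
theorem tb_step (r : ℕ) [Fact r.Prime] (d T : ℕ) (hd : 0 < d)
    (hblock : ∀ m w : ℕ, 2 ≤ m → m * w = d → ∃ b, TB.{u} r w b ∧ b ^ m * 2 ^ (m - 1) ≤ T)
    (hprim : ∀ a D z e y : ℕ, 1 ≤ a → a * D = d → 1 ≤ e → e ≤ D → z ∣ r ^ a - 1 →
      (∀ s : ℕ, s.Prime → s ∣ e → s ∣ z) → y ≤ spB e → (e = 2 → y ∣ 6) → (e = 3 → y ≤ 24) →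
      (e = 4 → y ≤ 72) → a * (z * (e ^ 2 * y)) ≤ T) :
    TB.{u} r d T := by
  intro H _ _ V _ _ _ ρ hsol hirr hinj hdim
  haveI : Nontrivial V := Module.nontrivial_of_finrank_pos (R := ZMod r) (hdim ▸ hd)
  by_cases hp : Prim ρ
  · obtain ⟨a, D, z, e, y, h1, h2, h3, h4, h5, h6, h7, h8, h9, h10, h11, -⟩ :=
      prim_data hsol ρ hinj hp
    exact Bd.of_card (h11.trans (hprim a D z e y h1 (h2.trans hdim) h3 h4 h5 h6 h7 h8 h9 h10))
  · simp only [Prim, hirr, true_and, not_forall, not_le] at hp
    obtain ⟨E, hE, hc⟩ := hp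
    obtain ⟨W, L, hL, hW, hLi, hfr, hbd⟩ := system_case hsol ρ hirr hinj hE hc
    obtain ⟨b, hb, hbT⟩ := hblock E.card (Module.finrank (ZMod r) W) hc (hfr.trans hdim)
    haveI : Finite (Module.End (ZMod r) W) := DFunLike.finite _
    exact (hbd b (hb L W (unitsRep L) hL hLi
      (fun x y h => Subtype.ext (Units.ext h)) rfl)).mono hbT

theorem spB_one : spB 1 = 1 := by simp [spB]

theorem y_one {y : ℕ} (hy : y ≤ spB 1) : y ≤ 1 := spB_one ▸ hy

theorem y_two {e y : ℕ} (he : e = 2) (h : e = 2 → y ∣ 6) : y ≤ 6 :=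
  Nat.le_of_dvd (by norm_num) (h he)

/-- the primes of `e` divide an odd number -/
theorem e_odd {e z M : ℕ} (he : ∀ s : ℕ, s.Prime → s ∣ e → s ∣ z) (hz : z ∣ M) (hM : ¬ 2 ∣ M) :
    ¬ 2 ∣ e := fun h => hM ((he 2 Nat.prime_two h).trans hz)

theorem e_not_three {e z M : ℕ} (he : ∀ s : ℕ, s.Prime → s ∣ e → s ∣ z) (hz : z ∣ M)
    (hM : ¬ 3 ∣ M) : ¬ 3 ∣ e := fun h => hM ((he 3 Nat.prime_three h).trans hz)

theorem e_five {e z M : ℕ} (he : ∀ s : ℕ, s.Prime → s ∣ e → s ∣ z) (hz : z ∣ M)
    (hM : ¬ 5 ∣ M) : ¬ 5 ∣ e := fun h => hM ((he 5 (by norm_num) h).trans hz)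

theorem e_seven {e z M : ℕ} (he : ∀ s : ℕ, s.Prime → s ∣ e → s ∣ z) (hz : z ∣ M)
    (hM : ¬ 7 ∣ M) : ¬ 7 ∣ e := fun h => hM ((he 7 (by norm_num) h).trans hz)

/-- bound with `e ≤ 1` -/
theorem bound_one {a z e y T M : ℕ} (hM : 0 < M) (hz : z ∣ M) (he : e = 1) (hy : y ≤ spB e)
    (h : a * M ≤ T) : a * (z * (e ^ 2 * y)) ≤ T := by
  subst he
  refine le_trans (Nat.mul_le_mul_left _ ?_) h
  calc z * (1 ^ 2 * y) ≤ M * (1 ^ 2 * 1) :=
        Nat.mul_le_mul (Nat.le_of_dvd hM hz) (Nat.mul_le_mul_left _ (y_one hy))
    _ = M := by simp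

/-- bound with a given `e` -/
theorem bound_of {a z e y T M e₀ Y : ℕ} (hM : 0 < M) (hz : z ∣ M) (he : e = e₀) (hy : y ≤ Y)
    (h : a * (M * (e₀ ^ 2 * Y)) ≤ T) : a * (z * (e ^ 2 * y)) ≤ T := by
  subst he
  exact le_trans (Nat.mul_le_mul_left _ (Nat.mul_le_mul (Nat.le_of_dvd hM hz)
    (Nat.mul_le_mul_left _ hy))) h

/-- the divisors `a` of `d` -/
theorem split_dims {a D d : ℕ} (h : a * D = d) (hd : 0 < d) :
    a ∈ Nat.divisors d ∧ D = d / a := by
  have ha : 0 < a := Nat.pos_of_ne_zero (by rintro rfl; simp at h; omega)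
  exact ⟨Nat.mem_divisors.2 ⟨⟨D, h.symm⟩, by omega⟩, by rw [← h, Nat.mul_div_cancel_left _ ha]⟩

section

theorem block_dims {m w d : ℕ} (hm : 2 ≤ m) (h : m * w = d) (hd : 0 < d) :
    m ∈ Nat.divisors d ∧ w = d / m := by
  exact ⟨Nat.mem_divisors.2 ⟨⟨w, h.symm⟩, by omega⟩, by
    rw [← h, Nat.mul_div_cancel_left _ (by omega)]⟩

theorem tb_one (r : ℕ) [Fact r.Prime] : TB.{u} r 1 (r - 1) := by
  refine tb_step r 1 _ one_pos (fun m w hm h => ?_) fun a D z e y ha had he heD hz _ hy _ _ _ => ?_
  · exfalso; have := Nat.eq_one_of_mul_eq_one_right h; omega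
  · obtain ⟨rfl, rfl⟩ : a = 1 ∧ D = 1 :=
      ⟨Nat.eq_one_of_mul_eq_one_right had, Nat.eq_one_of_mul_eq_one_left had⟩
    refine bound_one (Nat.sub_pos_of_lt ?_) (by simpa using hz) (by omega) hy (by simp)
    exact (Fact.out : r.Prime).one_lt

theorem tb22 : TB.{u} 2 2 3 := by
  classical
  intro H _ _ V _ _ _ ρ hsol hirr hinj hdim
  haveI : Module.Finite (ZMod 2) V := Module.Finite.of_finite
  have hV : Nat.card V = 4 := by
    rw [Module.natCard_eq_pow_finrank (K := ZMod 2) (V := V), hdim, Nat.card_zmod]; rfl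
  haveI := Fintype.ofFinite V
  have h3 : Nat.card {v : V // v ≠ 0} = 3 := by
    rw [Nat.card_eq_fintype_card, Fintype.card_subtype_compl, Fintype.card_subtype_eq,
      ← Nat.card_eq_fintype_card, hV]
  let e := (Finite.equivFinOfCardEq h3).permCongrHom.toMonoidHom
  have hne : ∀ (h : H) (v : V), v ≠ 0 ↔ ρ h v ≠ 0 := fun h v => by
    refine not_congr ⟨fun hv => by rw [hv, map_zero], fun hv => ?_⟩
    rw [← rho_inv_apply ρ h v, hv, map_zero]
  let f : H →* Equiv.Perm {v : V // v ≠ 0} :=
    { toFun := fun h =>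
        { toFun := fun v => ⟨ρ h v, (hne h v).1 v.2⟩
          invFun := fun v => ⟨ρ h⁻¹ v, (hne h⁻¹ v).1 v.2⟩
          left_inv := fun v => Subtype.ext (rho_inv_apply ρ h _)
          right_inv := fun v => Subtype.ext (rho_inv_apply' ρ h _) }
      map_one' := Equiv.ext fun v => Subtype.ext (by simp)
      map_mul' := fun a b => Equiv.ext fun v => Subtype.ext (by simp) }
  refine Bd.of_injective (e.comp f) ?_ bd_perm_three
  intro a b hab
  have h1 : f a = f b := (Finite.equivFinOfCardEq h3).permCongrHom.injective hab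
  refine hinj (LinearMap.ext fun v => ?_)
  by_cases hv : v = 0
  · simp [hv]
  · exact congrArg Subtype.val (Equiv.congr_fun h1 ⟨v, hv⟩)

theorem tb23 : TB.{u} 2 3 21 := by
  refine tb_step 2 3 21 (by norm_num) (fun m w hm h => ?_)
    fun a D z e y ha had he heD hz hse hy hy2 hy3 hy4 => ?_
  · obtain ⟨hm', rfl⟩ := block_dims hm h (by norm_num)
    rw [show Nat.divisors 3 = {1, 3} from by decide] at hm'
    simp only [Finset.mem_insert, Finset.mem_singleton] at hm'
    rcases hm' with rfl | rfl
    · omega
    · exact ⟨1, tb_one 2, by norm_num⟩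
  · obtain ⟨ha', rfl⟩ := split_dims had (by norm_num)
    rw [show Nat.divisors 3 = {1, 3} from by decide] at ha'
    simp only [Finset.mem_insert, Finset.mem_singleton] at ha'
    have h2 := e_odd hse (M := 2 ^ a - 1) hz (by rcases ha' with rfl | rfl <;> norm_num)
    have h3 := e_not_three hse (M := 2 ^ a - 1) hz (by rcases ha' with rfl | rfl <;> norm_num)
    have he3 : e ≤ 3 := heD.trans (Nat.div_le_self _ _)
    have he1 : e = 1 := by interval_cases e <;> first | rfl | omega
    rcases ha' with rfl | rfl
    · exact bound_one (by norm_num) hz he1 hy (by norm_num)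
    · exact bound_one (by norm_num) hz he1 hy (by norm_num)

theorem tb24 : TB.{u} 2 4 72 := by
  refine tb_step 2 4 72 (by norm_num) (fun m w hm h => ?_)
    fun a D z e y ha had he heD hz hse hy hy2 hy3 hy4 => ?_
  · obtain ⟨hm', rfl⟩ := block_dims hm h (by norm_num)
    rw [show Nat.divisors 4 = {1, 2, 4} from by decide] at hm'
    simp only [Finset.mem_insert, Finset.mem_singleton] at hm'
    rcases hm' with rfl | rfl | rfl
    · omega
    · exact ⟨3, tb22, by norm_num⟩
    · exact ⟨1, tb_one 2, by norm_num⟩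
  · obtain ⟨ha', rfl⟩ := split_dims had (by norm_num)
    rw [show Nat.divisors 4 = {1, 2, 4} from by decide] at ha'
    simp only [Finset.mem_insert, Finset.mem_singleton] at ha'
    have he4 : e ≤ 4 := heD.trans (Nat.div_le_self _ _)
    rcases ha' with rfl | rfl | rfl
    · have h2 := e_odd hse hz (by norm_num)
      have h3 := e_not_three hse hz (by norm_num)
      exact bound_one (by norm_num) hz (by interval_cases e <;> first | rfl | omega) hy (by norm_num)
    · have h2 := e_odd hse hz (by norm_num)
      exact bound_one (by norm_num) hz (by norm_num at heD; interval_cases e <;> first | rfl | omega)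
        hy (by norm_num)
    · exact bound_one (by norm_num) hz (by norm_num at heD; omega) hy (by norm_num)

theorem tb25 : TB.{u} 2 5 155 := by
  refine tb_step 2 5 155 (by norm_num) (fun m w hm h => ?_)
    fun a D z e y ha had he heD hz hse hy hy2 hy3 hy4 => ?_
  · obtain ⟨hm', rfl⟩ := block_dims hm h (by norm_num)
    rw [show Nat.divisors 5 = {1, 5} from by decide] at hm'
    simp only [Finset.mem_insert, Finset.mem_singleton] at hm'
    rcases hm' with rfl | rfl
    · omega
    · exact ⟨1, tb_one 2, by norm_num⟩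
  · obtain ⟨ha', rfl⟩ := split_dims had (by norm_num)
    rw [show Nat.divisors 5 = {1, 5} from by decide] at ha'
    simp only [Finset.mem_insert, Finset.mem_singleton] at ha'
    rcases ha' with rfl | rfl
    · have h2 := e_odd hse hz (by norm_num)
      have h3 := e_not_three hse hz (by norm_num)
      have h5 := e_five hse hz (by norm_num)
      exact bound_one (by norm_num) hz (by norm_num at heD; interval_cases e <;> first | rfl | omega)
        hy (by norm_num)
    · exact bound_one (by norm_num) hz (by norm_num at heD; omega) hy (by norm_num)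

theorem tb26 : TB.{u} 2 6 1296 := by
  refine tb_step 2 6 1296 (by norm_num) (fun m w hm h => ?_)
    fun a D z e y ha had he heD hz hse hy hy2 hy3 hy4 => ?_
  · obtain ⟨hm', rfl⟩ := block_dims hm h (by norm_num)
    rw [show Nat.divisors 6 = {1, 2, 3, 6} from by decide] at hm'
    simp only [Finset.mem_insert, Finset.mem_singleton] at hm'
    rcases hm' with rfl | rfl | rfl | rfl
    · omega
    · exact ⟨21, tb23, by norm_num⟩
    · exact ⟨3, tb22, by norm_num⟩
    · exact ⟨1, tb_one 2, by norm_num⟩
  · obtain ⟨ha', rfl⟩ := split_dims had (by norm_num)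
    rw [show Nat.divisors 6 = {1, 2, 3, 6} from by decide] at ha'
    simp only [Finset.mem_insert, Finset.mem_singleton] at ha'
    rcases ha' with rfl | rfl | rfl | rfl
    · have h2 := e_odd hse hz (by norm_num)
      have h3 := e_not_three hse hz (by norm_num)
      have h5 := e_five hse hz (by norm_num)
      exact bound_one (by norm_num) hz (by norm_num at heD; interval_cases e <;> first | rfl | omega)
        hy (by norm_num)
    · have h2 := e_odd hse hz (by norm_num)
      norm_num at heD
      obtain rfl | rfl : e = 1 ∨ e = 3 := by interval_cases e <;> omega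
      · exact bound_one (by norm_num) hz rfl hy (by norm_num)
      · exact bound_of (by norm_num) hz rfl (hy3 rfl) (by norm_num)
    · have h2 := e_odd hse hz (by norm_num)
      exact bound_one (by norm_num) hz (by norm_num at heD; omega) hy (by norm_num)
    · exact bound_one (by norm_num) hz (by norm_num at heD; omega) hy (by norm_num)

theorem tb28 : TB.{u} 2 8 (3 ^ 15) := by
  refine tb_step 2 8 _ (by norm_num) (fun m w hm h => ?_)
    fun a D z e y ha had he heD hz hse hy hy2 hy3 hy4 => ?_
  · obtain ⟨hm', rfl⟩ := block_dims hm h (by norm_num)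
    rw [show Nat.divisors 8 = {1, 2, 4, 8} from by decide] at hm'
    simp only [Finset.mem_insert, Finset.mem_singleton] at hm'
    rcases hm' with rfl | rfl | rfl | rfl
    · omega
    · exact ⟨72, tb24, by norm_num⟩
    · exact ⟨3, tb22, by norm_num⟩
    · exact ⟨1, tb_one 2, by norm_num⟩
  · obtain ⟨ha', rfl⟩ := split_dims had (by norm_num)
    rw [show Nat.divisors 8 = {1, 2, 4, 8} from by decide] at ha'
    simp only [Finset.mem_insert, Finset.mem_singleton] at ha'
    rcases ha' with rfl | rfl | rfl | rfl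
    · have h2 := e_odd hse hz (by norm_num)
      have h3 := e_not_three hse hz (by norm_num)
      have h5 := e_five hse hz (by norm_num)
      have h7 := e_seven hse hz (by norm_num)
      exact bound_one (by norm_num) hz (by norm_num at heD; interval_cases e <;> first | rfl | omega)
        hy (by norm_num)
    · have h2 := e_odd hse hz (by norm_num)
      norm_num at heD
      obtain rfl | rfl : e = 1 ∨ e = 3 := by interval_cases e <;> omega
      · exact bound_one (by norm_num) hz rfl hy (by norm_num)
      · exact bound_of (by norm_num) hz rfl (hy3 rfl) (by norm_num)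
    · have h2 := e_odd hse hz (by norm_num)
      exact bound_one (by norm_num) hz (by norm_num at heD; omega) hy (by norm_num)
    · exact bound_one (by norm_num) hz (by norm_num at heD; omega) hy (by norm_num)

theorem tb210 : TB.{u} 2 10 (3 ^ 31) := by
  refine tb_step 2 10 _ (by norm_num) (fun m w hm h => ?_)
    fun a D z e y ha had he heD hz hse hy hy2 hy3 hy4 => ?_
  · obtain ⟨hm', rfl⟩ := block_dims hm h (by norm_num)
    rw [show Nat.divisors 10 = {1, 2, 5, 10} from by decide] at hm'
    simp only [Finset.mem_insert, Finset.mem_singleton] at hm'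
    rcases hm' with rfl | rfl | rfl | rfl
    · omega
    · exact ⟨155, tb25, by norm_num⟩
    · exact ⟨3, tb22, by norm_num⟩
    · exact ⟨1, tb_one 2, by norm_num⟩
  · obtain ⟨ha', rfl⟩ := split_dims had (by norm_num)
    rw [show Nat.divisors 10 = {1, 2, 5, 10} from by decide] at ha'
    simp only [Finset.mem_insert, Finset.mem_singleton] at ha'
    rcases ha' with rfl | rfl | rfl | rfl
    · have h2 := e_odd hse hz (by norm_num)
      have h3 := e_not_three hse hz (by norm_num)
      have h5 := e_five hse hz (by norm_num)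
      have h7 := e_seven hse hz (by norm_num)
      exact bound_one (by norm_num) hz (by norm_num at heD; interval_cases e <;> first | rfl | omega)
        hy (by norm_num)
    · have h2 := e_odd hse hz (by norm_num)
      have h5 := e_five hse hz (by norm_num)
      norm_num at heD
      obtain rfl | rfl : e = 1 ∨ e = 3 := by interval_cases e <;> omega
      · exact bound_one (by norm_num) hz rfl hy (by norm_num)
      · exact bound_of (by norm_num) hz rfl (hy3 rfl) (by norm_num)
    · have h2 := e_odd hse hz (by norm_num)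
      exact bound_one (by norm_num) hz (by norm_num at heD; omega) hy (by norm_num)
    · exact bound_one (by norm_num) hz (by norm_num at heD; omega) hy (by norm_num)

theorem tb32 : TB.{u} 3 2 48 := by
  refine tb_step 3 2 48 (by norm_num) (fun m w hm h => ?_)
    fun a D z e y ha had he heD hz hse hy hy2 hy3 hy4 => ?_
  · obtain ⟨hm', rfl⟩ := block_dims hm h (by norm_num)
    rw [show Nat.divisors 2 = {1, 2} from by decide] at hm'
    simp only [Finset.mem_insert, Finset.mem_singleton] at hm'
    rcases hm' with rfl | rfl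
    · omega
    · exact ⟨2, tb_one 3, by norm_num⟩
  · obtain ⟨ha', rfl⟩ := split_dims had (by norm_num)
    rw [show Nat.divisors 2 = {1, 2} from by decide] at ha'
    simp only [Finset.mem_insert, Finset.mem_singleton] at ha'
    rcases ha' with rfl | rfl
    · norm_num at heD
      obtain rfl | rfl : e = 1 ∨ e = 2 := by omega
      · exact bound_one (by norm_num) hz rfl hy (by norm_num)
      · exact bound_of (by norm_num) hz rfl (y_two rfl hy2) (by norm_num)
    · exact bound_one (by norm_num) hz (by norm_num at heD; omega) hy (by norm_num)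

theorem tb34 : TB.{u} 3 4 (3 ^ 8) := by
  refine tb_step 3 4 _ (by norm_num) (fun m w hm h => ?_)
    fun a D z e y ha had he heD hz hse hy hy2 hy3 hy4 => ?_
  · obtain ⟨hm', rfl⟩ := block_dims hm h (by norm_num)
    rw [show Nat.divisors 4 = {1, 2, 4} from by decide] at hm'
    simp only [Finset.mem_insert, Finset.mem_singleton] at hm'
    rcases hm' with rfl | rfl | rfl
    · omega
    · exact ⟨48, tb32, by norm_num⟩
    · exact ⟨2, tb_one 3, by norm_num⟩
  · obtain ⟨ha', rfl⟩ := split_dims had (by norm_num)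
    rw [show Nat.divisors 4 = {1, 2, 4} from by decide] at ha'
    simp only [Finset.mem_insert, Finset.mem_singleton] at ha'
    rcases ha' with rfl | rfl | rfl
    · have h3 := e_not_three hse hz (by norm_num)
      norm_num at heD
      obtain rfl | rfl | rfl : e = 1 ∨ e = 2 ∨ e = 4 := by interval_cases e <;> omega
      · exact bound_one (by norm_num) hz rfl hy (by norm_num)
      · exact bound_of (by norm_num) hz rfl (y_two rfl hy2) (by norm_num)
      · exact bound_of (by norm_num) hz rfl (hy4 rfl) (by norm_num)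
    · norm_num at heD
      obtain rfl | rfl : e = 1 ∨ e = 2 := by omega
      · exact bound_one (by norm_num) hz rfl hy (by norm_num)
      · exact bound_of (by norm_num) hz rfl (y_two rfl hy2) (by norm_num)
    · exact bound_one (by norm_num) hz (by norm_num at heD; omega) hy (by norm_num)

end

end Cfsg.Agent.LinClasses
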